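import Mathlib
import Groth.Agent.DimFormula.ClosedSub

/-!
# Rational points over a trait and factorisations through reduced closed subschemes
-/

set_option autoImplicit false
set_option linter.style.haveILetI false
set_option backward.isDefEq.respectTransparency false
set_option backward.isDefEq.respectTransparency.types false

universe u

open CategoryTheory CategoryTheory.Limits AlgebraicGeometry TopologicalSpace

namespace Groth.Agent.ProperAt5

/-- A reduced scheme landing in a closed set factors through its reduced subscheme. -/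
theorem exists_factor_closed {T X : Scheme.{u}} [IsReduced T] (h : T ⟶ X) (K : Closeds X)
    (hh : Set.range h ⊆ (K : Set X)) :
    ∃ l : T ⟶ (Scheme.IdealSheafData.vanishingIdeal K).subscheme,
      l ≫ (Scheme.IdealSheafData.vanishingIdeal K).subschemeι = h := by
  have hle : Scheme.IdealSheafData.vanishingIdeal K ≤ h.ker := by
    refine Scheme.IdealSheafData.le_ofIdeals_iff.2 fun U r hr => ?_
    show (h.app U.1).hom r = 0
    rw [← basicOpen_eq_bot_iff, ← Scheme.preimage_basicOpen]
    refine eq_bot_iff.2 fun t ht => ?_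
    obtain ⟨q, hq⟩ : h t ∈ Set.range U.2.fromSpec := by
      rw [U.2.range_fromSpec]; exact X.basicOpen_le r ht
    have h1 : q ∈ U.2.fromSpec ⁻¹ᵁ X.basicOpen r := by
      show U.2.fromSpec q ∈ X.basicOpen r
      rw [hq]; exact ht
    rw [U.2.fromSpec_preimage_basicOpen] at h1
    rw [Scheme.IdealSheafData.vanishingIdeal_ideal] at hr
    exact h1 ((PrimeSpectrum.mem_vanishingIdeal _ _).1 hr q (by
      show U.2.fromSpec q ∈ (K : Set X)
      rw [hq]; exact hh ⟨t, rfl⟩))
  exact ⟨IsClosedImmersion.lift (Scheme.IdealSheafData.vanishingIdeal K).subschemeι h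
    (by rwa [Scheme.IdealSheafData.ker_subschemeι]), IsClosedImmersion.lift_fac _ _ _⟩

theorem exists_descResidueField {K : Type u} [Field K] {X : Scheme.{u}} (σ : Spec (CommRingCat.of K) ⟶ X) {x : X}
    (hx : σ (IsLocalRing.closedPoint K : PrimeSpectrum K) = x) :
    ∃ ψ : X.residueField x ⟶ CommRingCat.of K, Spec.map ψ ≫ X.fromSpecResidueField x = σ := by
  subst hx
  exact ⟨_, Scheme.descResidueField_stalkClosedPointTo_fromSpecResidueField K X σ⟩

variable {A : Type u} [CommRing A] [IsDomain A] {X : Scheme.{u}} (p : X ⟶ Spec (CommRingCat.of A)) {x : X}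

/-- Rational point of the generic fibre from a point of the fraction field. -/
theorem bijective_residueFieldMap_of_point (σ : Spec (CommRingCat.of (FractionRing A)) ⟶ X)
    (hx : σ (IsLocalRing.closedPoint (FractionRing A) : PrimeSpectrum (FractionRing A)) = x)
    (hσ : σ ≫ p = Spec.map (CommRingCat.ofHom (algebraMap A (FractionRing A)))) :
    Function.Bijective (p.residueFieldMap x).hom := by
  obtain ⟨ψ, hψ⟩ := exists_descResidueField σ hx
  obtain ⟨θ, hθ⟩ := Spec.map_surjective ((Spec (CommRingCat.of A)).fromSpecResidueField (p x))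
  have h : θ ≫ p.residueFieldMap x ≫ ψ = CommRingCat.ofHom (algebraMap A (FractionRing A)) := by
    apply Spec.map_injective
    rw [Spec.map_comp, Spec.map_comp, Category.assoc, hθ, Scheme.Hom.SpecMap_residueFieldMap_fromSpecResidueField,
      ← Category.assoc, hψ, hσ]
  have happ : ∀ a : A, ψ.hom ((p.residueFieldMap x).hom (θ.hom a)) = algebraMap A (FractionRing A) a := fun a =>
    congrArg (fun φ => φ.hom a) h
  refine ⟨(p.residueFieldMap x).hom.injective, fun c => ?_⟩
  obtain ⟨r, s, hs, hrs⟩ := IsFractionRing.div_surjective A (ψ.hom c)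
  refine ⟨θ.hom r / θ.hom s, ψ.hom.injective ?_⟩
  rw [map_div₀, map_div₀, happ, happ, hrs]

/-- A rational point is the image of a point of the fraction field. -/
theorem exists_point_of_rational {K : Type u} [Field K] {S : Scheme.{u}} (q : X ⟶ S) (a : Spec (CommRingCat.of K) ⟶ S)
    (ha : a (IsLocalRing.closedPoint K : PrimeSpectrum K) = q x) (hr : Function.Bijective (q.residueFieldMap x).hom) :
    ∃ σ : Spec (CommRingCat.of K) ⟶ X, σ ≫ q = a ∧ ∀ t, σ t = x := by
  haveI : IsIso (q.residueFieldMap x) := (ConcreteCategory.isIso_iff_bijective _).2 hr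
  obtain ⟨χ, hχ⟩ := exists_descResidueField a ha
  refine ⟨Spec.map (inv (q.residueFieldMap x) ≫ χ) ≫ X.fromSpecResidueField x, ?_, fun t => ?_⟩
  · rw [Spec.map_comp, Category.assoc, Category.assoc, ← Scheme.Hom.SpecMap_residueFieldMap_fromSpecResidueField,
      ← Category.assoc (Spec.map (inv _)), ← Spec.map_comp, IsIso.hom_inv_id, Spec.map_id, Category.id_comp, hχ]
  · rw [Scheme.Hom.comp_apply]
    exact Scheme.fromSpecResidueField_apply x _

/-- Two field valued points at a rational point with the same image agree. -/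
theorem eq_of_rational {K : Type u} [Field K] {S : Scheme.{u}} (q : X ⟶ S)
    (hr : Function.Bijective (q.residueFieldMap x).hom) (h₁ h₂ : Spec (CommRingCat.of K) ⟶ X)
    (e₁ : h₁ (IsLocalRing.closedPoint K : PrimeSpectrum K) = x)
    (e₂ : h₂ (IsLocalRing.closedPoint K : PrimeSpectrum K) = x) (heq : h₁ ≫ q = h₂ ≫ q) : h₁ = h₂ := by
  haveI : IsIso (q.residueFieldMap x) := (ConcreteCategory.isIso_iff_bijective _).2 hr
  obtain ⟨ψ₁, hψ₁⟩ := exists_descResidueField h₁ e₁
  obtain ⟨ψ₂, hψ₂⟩ := exists_descResidueField h₂ e₂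
  rw [← hψ₁, ← hψ₂, Category.assoc, Category.assoc, ← Scheme.Hom.SpecMap_residueFieldMap_fromSpecResidueField,
    ← Category.assoc, ← Category.assoc, ← Spec.map_comp, ← Spec.map_comp, cancel_mono] at heq
  rw [← hψ₁, ← hψ₂, (cancel_epi (q.residueFieldMap x)).1 (Spec.map_injective heq)]

end Groth.Agent.ProperAt5
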