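import Groth.Agent.ProperAt5.Gen
import Groth.Agent.ProperAt5.Subset

/-!
# Properness near a point of the closure of a subset
-/

set_option autoImplicit false
set_option linter.style.haveILetI false
set_option backward.isDefEq.respectTransparency false
set_option backward.isDefEq.respectTransparency.types false

universe u

open CategoryTheory CategoryTheory.Limits AlgebraicGeometry TopologicalSpace

namespace Groth.Agent.ProperAt5

variable {X Y : Scheme.{u}} (f : X ⟶ Y)

/-- The closure is proper near a point when the criterion holds at its maximal points. -/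
theorem exists_proper_closure [IsLocallyNoetherian Y] [IsSeparated f] [LocallyOfFiniteType f] [QuasiCompact f]
    (Z : Set X) (y : Y)
    (H : ∀ ξ ∈ closure Z, (∀ z ∈ closure Z, z ⤳ ξ → z = ξ) → DvrExtPt f y ξ) :
    ∃ U : Y.Opens, y ∈ U ∧ IsProper
      (((Scheme.IdealSheafData.vanishingIdeal ⟨closure Z, isClosed_closure⟩).subschemeι ≫ f) ∣_ U) := by
  let K : Closeds X := ⟨closure Z, isClosed_closure⟩
  let c := (Scheme.IdealSheafData.vanishingIdeal K).subschemeι
  have hc : Set.range c = closure Z := DimFormula.range_vanishingIdeal K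
  refine exists_isProper_restrict_gen (c ≫ f) y fun ξ hξ A _ _ _ g hg σ hσξ hσ => ?_
  have hm : ∀ z ∈ closure Z, z ⤳ c ξ → z = c ξ := fun z hz hspec => by
    obtain ⟨v, rfl⟩ : z ∈ Set.range c := by rw [hc]; exact hz
    rw [hξ v (c.isEmbedding.isInducing.specializes_iff.1 hspec)]
  obtain ⟨s, hs, hsσ⟩ := H (c ξ) (hc.le ⟨ξ, rfl⟩) hm A g hg (σ ≫ c)
    (fun t => by rw [Scheme.Hom.comp_apply, hσξ]) (by rw [Category.assoc, hσ])
  obtain ⟨m, hm'⟩ := exists_factor_closed s K (by
    rintro _ ⟨w, rfl⟩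
    let pt : Spec (CommRingCat.of (FractionRing A)) :=
      (IsLocalRing.closedPoint (FractionRing A) : PrimeSpectrum (FractionRing A))
    let v := Spec.map (CommRingCat.ofHom (algebraMap A (FractionRing A))) pt
    have hv : (v : PrimeSpectrum A).asIdeal = ⊥ := by
      show Ideal.comap (algebraMap A (FractionRing A)) (IsLocalRing.maximalIdeal (FractionRing A)) = ⊥
      rw [IsLocalRing.maximalIdeal_eq_bot, ← RingHom.ker_eq_comap_bot,
        (RingHom.injective_iff_ker_eq_bot _).1 (IsFractionRing.injective A (FractionRing A))]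
    have hvw : v ⤳ w := (PrimeSpectrum.le_iff_specializes (v : PrimeSpectrum A) (w : PrimeSpectrum A)).1
      (show (v : PrimeSpectrum A).asIdeal ≤ _ from hv ▸ bot_le)
    refine (hvw.map s.continuous).mem_closed isClosed_closure ?_
    show s v ∈ closure Z
    rw [← Scheme.Hom.comp_apply, hsσ, Scheme.Hom.comp_apply, hσξ]
    exact hc.le ⟨ξ, rfl⟩)
  exact ⟨m, by rw [reassoc_of% hm', hs], by rw [← cancel_mono c, Category.assoc, hm', hsσ]⟩

theorem isProper_restrict_le {P : Scheme.{u}} (g : P ⟶ Y) {U V : Y.Opens} (h : V ≤ U) (hU : IsProper (g ∣_ U)) :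
    IsProper (g ∣_ V) := by
  have h1 : IsProper ((g ∣_ U) ∣_ (U.ι ⁻¹ᵁ V)) := IsZariskiLocalAtTarget.restrict hU _
  have h2 := (MorphismProperty.arrow_mk_iso_iff @IsProper (morphismRestrictRestrict g U (U.ι ⁻¹ᵁ V))).1 h1
  rwa [Scheme.Hom.image_preimage_eq_opensRange_inf, Scheme.Opens.opensRange_ι, inf_eq_right.2 h] at h2

/-- The closure cut out inside the preimage of an open is proper over it. -/
theorem isProper_closure_restrict [IsSeparated f] [LocallyOfFiniteType f] (Z : Set X) (U : Y.Opens)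
    (hU : IsProper (((Scheme.IdealSheafData.vanishingIdeal ⟨closure Z, isClosed_closure⟩).subschemeι ≫ f) ∣_ U))
    (C : Closeds (f ⁻¹ᵁ U).toScheme) (hC : (C : Set (f ⁻¹ᵁ U).toScheme) = (f ⁻¹ᵁ U).ι ⁻¹' closure Z) :
    IsProper ((Scheme.IdealSheafData.vanishingIdeal C).subschemeι ≫ f ∣_ U) := by
  let K : Closeds X := ⟨closure Z, isClosed_closure⟩
  let c := (Scheme.IdealSheafData.vanishingIdeal K).subschemeι
  have hc : Set.range c = closure Z := DimFormula.range_vanishingIdeal K
  let cU := (Scheme.IdealSheafData.vanishingIdeal C).subschemeι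
  haveI : IsReduced (Scheme.IdealSheafData.vanishingIdeal K).subscheme := inferInstance
  haveI : IsReduced ((c ⁻¹ᵁ (f ⁻¹ᵁ U) : (Scheme.IdealSheafData.vanishingIdeal K).subscheme.Opens) : Scheme.{u}) := inferInstance
  obtain ⟨l, hl⟩ := exists_factor_closed (c ∣_ (f ⁻¹ᵁ U)) C (by
    rw [hC]
    rintro _ ⟨t, rfl⟩
    show (f ⁻¹ᵁ U).ι ((c ∣_ (f ⁻¹ᵁ U)) t) ∈ closure Z
    rw [← Scheme.Hom.comp_apply, morphismRestrict_ι, Scheme.Hom.comp_apply]
    exact hc.le ⟨_, rfl⟩)
  haveI : Surjective l := ⟨fun w => by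
    have hw : (f ⁻¹ᵁ U).ι (cU w) ∈ closure Z := hC.le ((DimFormula.range_vanishingIdeal C).le ⟨w, rfl⟩)
    obtain ⟨v, hv⟩ : (f ⁻¹ᵁ U).ι (cU w) ∈ Set.range c := by rw [hc]; exact hw
    refine ⟨⟨v, by show c v ∈ f ⁻¹ᵁ U; rw [hv]; exact (cU w).2⟩, cU.isEmbedding.injective ?_⟩
    rw [← Scheme.Hom.comp_apply, hl]
    exact Subtype.ext ((morphismRestrict_base_coe _ _ _).trans hv)⟩
  show IsProper (cU ≫ f ∣_ U)
  haveI : UniversallyClosed (l ≫ cU ≫ f ∣_ U) := by
    rw [reassoc_of% hl, ← morphismRestrict_comp]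
    exact hU.toUniversallyClosed
  haveI : UniversallyClosed (cU ≫ f ∣_ U) := UniversallyClosed.of_comp_surjective l (cU ≫ f ∣_ U)
  haveI : IsSeparated (f ∣_ U) := IsZariskiLocalAtTarget.restrict ‹_› _
  haveI : LocallyOfFiniteType (f ∣_ U) := IsZariskiLocalAtTarget.restrict ‹_› _
  exact {}

/-- A clopen of a fibre inside a proper closure is proper over the residue field. -/
theorem isProper_fibre_piece (Z : Set X) {U : Y.Opens} {y : Y} (hy : y ∈ U) [IsSeparated f]
    [LocallyOfFiniteType f]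
    (hU : IsProper (((Scheme.IdealSheafData.vanishingIdeal ⟨closure Z, isClosed_closure⟩).subschemeι ≫ f) ∣_ U))
    (O : (f.fiber y).Opens) (hO : IsClosed (O : Set (f.fiber y)))
    (hOZ : ∀ w ∈ O, f.fiberι y w ∈ closure Z) :
    IsProper (O.ι ≫ f.fiberToSpecResidueField y) := by
  let K : Closeds X := ⟨closure Z, isClosed_closure⟩
  let c := (Scheme.IdealSheafData.vanishingIdeal K).subschemeι
  haveI : IsClosedImmersion O.ι := IsClosedImmersion.of_isPreimmersion O.ι (by
    rw [Scheme.Opens.range_ι]; exact hO)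
  let O' := (Scheme.IdealSheafData.vanishingIdeal (⊤ : Closeds O.toScheme))
  haveI : Surjective O'.subschemeι := ⟨fun w => by
    have h : w ∈ Set.range O'.subschemeι := by rw [DimFormula.range_vanishingIdeal]; trivial
    exact h⟩
  let r := O'.subschemeι ≫ O.ι ≫ f.fiberι y
  obtain ⟨l, hl⟩ := exists_factor_closed r K (by
    rintro _ ⟨t, rfl⟩
    exact hOZ _ ((O'.subschemeι t)).2)
  haveI : IsSeparated (f ∣_ U) := IsZariskiLocalAtTarget.restrict ‹_› _
  -- a proper scheme over the residue field carrying the piece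
  let e : Spec (Y.residueField y) ⟶ U := IsOpenImmersion.lift U.ι (Y.fromSpecResidueField y)
    (by rw [Scheme.range_fromSpecResidueField, Scheme.Opens.range_ι]; exact Set.singleton_subset_iff.2 hy)
  have he : e ≫ U.ι = Y.fromSpecResidueField y := IsOpenImmersion.lift_fac _ _ _
  let P := pullback ((c ≫ f) ∣_ U) e
  haveI : IsProper (pullback.snd ((c ≫ f) ∣_ U) e) := MorphismProperty.pullback_snd (P := @IsProper) _ _ hU
  let m : P ⟶ f.fiber y := pullback.lift
    (pullback.fst ((c ≫ f) ∣_ U) e ≫ ((c ≫ f) ⁻¹ᵁ U).ι ≫ c) (pullback.snd _ _) (by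
      rw [Category.assoc, Category.assoc, ← morphismRestrict_ι (c ≫ f) U, pullback.condition_assoc, he])
  have hmS : m ≫ f.fiberToSpecResidueField y = pullback.snd _ _ := pullback.lift_snd _ _ _
  haveI : IsSeparated (m ≫ f.fiberToSpecResidueField y) := by rw [hmS]; infer_instance
  haveI : IsSeparated m := IsSeparated.of_comp m (f.fiberToSpecResidueField y)
  have hr : Set.range l ⊆ Set.range ((c ≫ f) ⁻¹ᵁ U).ι := by
    rw [Scheme.Opens.range_ι]
    rintro _ ⟨t, rfl⟩
    show f (c (l t)) ∈ U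
    rw [← Scheme.Hom.comp_apply l, hl]
    show f (f.fiberι y (O.ι (O'.subschemeι t))) ∈ U
    have h1 : f.fiberι y (O.ι (O'.subschemeι t)) ∈ f ⁻¹' {y} := (f.range_fiberι y).le ⟨_, rfl⟩
    rw [show f (f.fiberι y (O.ι (O'.subschemeι t))) = y from h1]
    exact hy
  let n : O'.subscheme ⟶ P := pullback.lift (IsOpenImmersion.lift ((c ≫ f) ⁻¹ᵁ U).ι l hr)
    (O'.subschemeι ≫ O.ι ≫ f.fiberToSpecResidueField y) (by
      rw [← cancel_mono U.ι, Category.assoc, morphismRestrict_ι, IsOpenImmersion.lift_fac_assoc, reassoc_of% hl]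
      simp only [r, Category.assoc, he]
      congr 2
      exact pullback.condition)
  have hnm : n ≫ m = O'.subschemeι ≫ O.ι := by
    refine pullback.hom_ext ?_ ?_
    · rw [Category.assoc, pullback.lift_fst, pullback.lift_fst_assoc, IsOpenImmersion.lift_fac_assoc, hl]
      simp only [r, Category.assoc]
      rfl
    · rw [Category.assoc, pullback.lift_snd, pullback.lift_snd, Category.assoc]
      rfl
  haveI : IsClosedImmersion (n ≫ m) := by rw [hnm]; infer_instance
  haveI : IsClosedImmersion n := IsClosedImmersion.of_comp n m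
  haveI : UniversallyClosed (O'.subschemeι ≫ O.ι ≫ f.fiberToSpecResidueField y) := by
    rw [← Category.assoc, ← hnm, Category.assoc, hmS]
    infer_instance
  haveI : UniversallyClosed (O.ι ≫ f.fiberToSpecResidueField y) :=
    UniversallyClosed.of_comp_surjective O'.subschemeι (O.ι ≫ f.fiberToSpecResidueField y)
  haveI : IsSeparated (f.fiberToSpecResidueField y) := MorphismProperty.pullback_snd (P := @IsSeparated) _ _ inferInstance
  haveI : LocallyOfFiniteType (f.fiberToSpecResidueField y) :=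
    MorphismProperty.pullback_snd (P := @LocallyOfFiniteType) _ _ inferInstance
  haveI : IsSeparated (O.ι ≫ f.fiberToSpecResidueField y) := inferInstance
  exact {}

end Groth.Agent.ProperAt5
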