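import Mathlib
import Groth.Agent.SpecLib.Constr

/-!
# Constructible sets and generizations of points of their closure
-/

set_option autoImplicit false
set_option linter.style.haveILetI false
set_option backward.isDefEq.respectTransparency false
set_option backward.isDefEq.respectTransparency.types false

universe u

open CategoryTheory AlgebraicGeometry TopologicalSpace Topology

namespace Groth.Agent.ProperAt5

theorem exists_specializes_of_isConstructible {T : Type*} [TopologicalSpace T] [NoetherianSpace T] [QuasiSober T]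
    {E : Set T} (hE : IsConstructible E) {x : T} (hx : x ∈ closure E) : ∃ z ∈ E, z ⤳ x := by
  by_contra! hno
  have hn : Eᶜ ∈ nhds x := by
    refine SpecLib.mem_nhds_of_forall_irred fun Y hY hirr hxY => ?_
    have hη := hirr.isGenericPoint_genericPoint hY
    refine SpecLib.exists_open_of_isConstructible hE.compl hirr ?_
    calc Y = closure {hirr.genericPoint} := hη.def.symm
      _ ⊆ closure (Eᶜ ∩ Y) := closure_mono (Set.singleton_subset_iff.2
          ⟨fun h => hno _ h (hη.specializes hxY), hη.mem⟩)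
  obtain ⟨z, hz, hzE⟩ := mem_closure_iff_nhds.1 hx _ hn
  exact hz hzE

/-- Points of the closure of the trace on an open of the preimage of a constructible set generize into it. -/
theorem exists_specializes_preimage {X' X : Scheme.{u}} [IsLocallyNoetherian X'] [IsLocallyNoetherian X]
    (p : X' ⟶ X) {Z : Set X} (hZ : IsLocallyConstructible Z) (O : X'.Opens) {x : X'}
    (hx : x ∈ closure (p ⁻¹' Z ∩ (O : Set X'))) : ∃ z ∈ p ⁻¹' Z ∩ (O : Set X'), z ⤳ x := by
  obtain ⟨W, hW, hxW, -⟩ := exists_isAffineOpen_mem_and_subset (show p x ∈ (⊤ : X.Opens) from trivial)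
  obtain ⟨V, hV, hxV, hVW⟩ := exists_isAffineOpen_mem_and_subset (show x ∈ p ⁻¹ᵁ W from hxW)
  haveI : IsAffine W := hW
  haveI : IsAffine V := hV
  haveI : AlgebraicGeometry.IsNoetherian (V : Scheme.{u}) := {}
  haveI : AlgebraicGeometry.IsNoetherian (W : Scheme.{u}) := {}
  let q : (V : Scheme.{u}) ⟶ W := p.resLE W V hVW
  have hq : ∀ v : (V : Scheme.{u}), W.ι (q v) = p (V.ι v) := fun v => by
    rw [← Scheme.Hom.comp_apply, Scheme.Hom.resLE_comp_ι, Scheme.Hom.comp_apply]
  have hc : IsConstructible (V.ι ⁻¹' (p ⁻¹' Z ∩ (O : Set X'))) := by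
    have h1 : IsConstructible (W.ι ⁻¹' Z) := (hZ.preimage_of_isOpenEmbedding W.ι.isOpenEmbedding).isConstructible
    have h2 : IsConstructible (q ⁻¹' (W.ι ⁻¹' Z)) :=
      h1.preimage q.continuous fun t _ _ _ _ _ => NoetherianSpace.isCompact _
    have h3 : IsConstructible (V.ι ⁻¹' (O : Set X')) :=
      SpecLib.isConstructible_of_isOpen (O.isOpen.preimage V.ι.continuous)
    have h4 : V.ι ⁻¹' (p ⁻¹' Z ∩ (O : Set X')) = q ⁻¹' (W.ι ⁻¹' Z) ∩ V.ι ⁻¹' (O : Set X') :=
      Set.ext fun v => by simp only [Set.mem_preimage, Set.mem_inter_iff, hq]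
    rw [h4]
    exact h2.inter h3
  obtain ⟨z, hz, hzx⟩ := exists_specializes_of_isConstructible hc (x := ⟨x, hxV⟩) (by
    rw [← V.ι.isOpenEmbedding.isOpenMap.preimage_closure_eq_closure_preimage V.ι.continuous]
    exact hx)
  exact ⟨V.ι z, hz, hzx.map V.ι.continuous⟩

/-- A constructible set containing no generization of a point of the base has closed trace near it. -/
theorem exists_nhd_disjoint {X Y : Scheme.{u}} [IsLocallyNoetherian Y] (f : X ⟶ Y) [LocallyOfFiniteType f]
    [QuasiCompact f] {Z : Set X} (hZ : IsLocallyConstructible Z) (U : Y.Opens) {y : Y} (hy : y ∈ U)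
    (hgen : ∀ x ∈ closure Z, f x ⤳ y → x ∈ Z) :
    ∃ V : Y.Opens, V ≤ U ∧ y ∈ V ∧ ∀ x ∈ closure Z, f x ∈ V → x ∈ Z := by
  obtain ⟨W, hW, hyW, hWU⟩ := exists_isAffineOpen_mem_and_subset hy
  haveI : IsAffine W := hW
  haveI : AlgebraicGeometry.IsNoetherian (W : Scheme.{u}) := {}
  let g := f ∣_ W
  haveI : LocallyOfFiniteType g := IsZariskiLocalAtTarget.restrict ‹_› _
  haveI : QuasiCompact g := IsZariskiLocalAtTarget.restrict ‹_› _
  haveI : CompactSpace (f ⁻¹ᵁ W : Scheme.{u}) := QuasiCompact.compactSpace_of_compactSpace g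
  haveI : IsLocallyNoetherian (f ⁻¹ᵁ W : Scheme.{u}) := LocallyOfFiniteType.isLocallyNoetherian g
  haveI : AlgebraicGeometry.IsNoetherian (f ⁻¹ᵁ W : Scheme.{u}) := {}
  haveI : LocallyOfFinitePresentation g := inferInstance
  let j := (f ⁻¹ᵁ W).ι
  let E : Set (f ⁻¹ᵁ W : Scheme.{u}) := j ⁻¹' closure Z \ j ⁻¹' Z
  have hE : IsConstructible E := (SpecLib.isConstructible_of_isClosed (isClosed_closure.preimage j.continuous)).sdiff
    ((hZ.preimage_of_isOpenEmbedding j.isOpenEmbedding).isConstructible)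
  have hgE : IsConstructible (g '' E) := (Scheme.Hom.isLocallyConstructible_image g hE.isLocallyConstructible).isConstructible
  have hjg : ∀ v, W.ι (g v) = f (j v) := fun v => morphismRestrict_base_coe f W v
  have hny : (⟨y, hyW⟩ : (W : Scheme.{u})) ∉ closure (g '' E) := fun h => by
    obtain ⟨_, ⟨v, hv, rfl⟩, hvy⟩ := exists_specializes_of_isConstructible hgE h
    exact hv.2 (hgen _ hv.1 (by rw [← hjg]; exact hvy.map W.ι.continuous))
  refine ⟨W.ι ''ᵁ ⟨(closure (g '' E))ᶜ, isClosed_closure.isOpen_compl⟩, ?_, ⟨⟨y, hyW⟩, hny, rfl⟩, ?_⟩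
  · rintro _ ⟨v, -, rfl⟩
    exact hWU v.2
  · rintro x hx ⟨v, hv, hvx⟩
    by_contra hxZ
    have hxW : x ∈ f ⁻¹ᵁ W := by
      show f x ∈ W
      rw [← hvx]; exact v.2
    exact hv (subset_closure ⟨⟨x, hxW⟩, ⟨hx, hxZ⟩, W.ι.isOpenEmbedding.injective ((hjg _).trans hvx.symm)⟩)

end Groth.Agent.ProperAt5
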