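import Groth.Agent.HTopCov.ChowLite
import Groth.Agent.Proj16.DVRCrit
import Groth.Agent.Proj16.UClosed
import Groth.Agent.FibDim.Top
import Groth.Agent.S1477

/-!
# Properness near a point by discrete valuation rings (EGA IV 15.7.1)
-/

set_option autoImplicit false
set_option linter.style.haveILetI false
set_option backward.isDefEq.respectTransparency false
set_option backward.isDefEq.respectTransparency.types false

universe u

open CategoryTheory CategoryTheory.Limits AlgebraicGeometry TopologicalSpace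

namespace Groth.Agent.ProperAt5

/-- Rational points over discrete valuation rings centred at `y` extend. -/
def DvrExtAt {X Y : Scheme.{u}} (f : X ⟶ Y) (y : Y) : Prop :=
  ∀ (A : Type u) [CommRing A] [IsDomain A] [IsDiscreteValuationRing A] (g : Spec (CommRingCat.of A) ⟶ Y),
    g (IsLocalRing.closedPoint A) = y →
    ∀ σ : Spec (CommRingCat.of (FractionRing A)) ⟶ X,
      σ ≫ f = Spec.map (CommRingCat.ofHom (algebraMap A (FractionRing A))) ≫ g →
      ∃ s : Spec (CommRingCat.of A) ⟶ X, s ≫ f = g ∧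
        Spec.map (CommRingCat.ofHom (algebraMap A (FractionRing A))) ≫ s = σ

variable {X Y Z W : Scheme.{u}} {f : X ⟶ Y} {y : Y}

/-- The boundary of a piece does not meet the fibre. -/
theorem mem_range_of_dvrExtAt [IsLocallyNoetherian W] {j : Z ⟶ W} [IsOpenImmersion j] {w : W ⟶ Y}
    [IsSeparated w] {π : Z ⟶ X} [UniversallyClosed π] (hcomp : j ≫ w = π ≫ f) (H : DvrExtAt f y)
    {b : W} (hb : b ∈ closure (Set.range j)) (hby : w b = y) : b ∈ Set.range j := by
  obtain ⟨U, hbU, hU⟩ := FibDim.exists_nhd_generizing (Z := closure (Set.range j)) isClosed_closure b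
  obtain ⟨z, hzU, hzr⟩ := mem_closure_iff.1 hb U U.isOpen hbU
  obtain ⟨η, -, hηb, hηz⟩ := hU z hzU (subset_closure hzr)
  have hη : η ∈ Set.range j := hηz.mem_open j.isOpenEmbedding.isOpen_range hzr
  by_cases hne : b = η
  · exact hne ▸ hη
  obtain ⟨A, h, hA, h1, h2⟩ := Proj16.exists_dvr_path (p := 𝟙 W) (x := η) hηb hne
  obtain ⟨e, he, he'⟩ := Proj16.exists_fractionRing_spec A
  let a := Spec.map (CommRingCat.ofHom (algebraMap A (FractionRing A)))
  have hgen : a ≫ h = e ≫ W.fromSpecResidueField η := by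
    show Spec.map (CommRingCat.ofHom (algebraMap A (FractionRing A))) ≫ h = _
    rw [← he', Category.assoc, h2, Category.comp_id]
  have hr : Set.range (a ≫ h) ⊆ Set.range j := by
    rintro _ ⟨t, rfl⟩
    rw [hgen, Scheme.Hom.comp_apply]
    erw [Scheme.fromSpecResidueField_apply]
    exact hη
  let zK := IsOpenImmersion.lift j (a ≫ h) hr
  have hzK : zK ≫ j = a ≫ h := IsOpenImmersion.lift_fac _ _ _
  obtain ⟨s, hs, hsσ⟩ := H A (h ≫ w) (by rw [Scheme.Hom.comp_apply, h1, hby]) (zK ≫ π)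
    (by rw [Category.assoc, ← hcomp, reassoc_of% hzK])
  obtain ⟨l, hl, hla⟩ := Proj16.dvrExistence_of_universallyClosed π A zK s hsσ.symm
  have heq : l ≫ j = h := Proj16.dvrUniqueness_of_isSeparated w A _ _
    (by rw [Category.assoc, hcomp, reassoc_of% hl, hs]) (by rw [← Category.assoc, hla, hzK])
  exact ⟨l (IsLocalRing.closedPoint A), by rw [← Scheme.Hom.comp_apply, heq, h1]⟩

/-- A piece is universally closed near the point. -/
theorem exists_nhd_piece [IsLocallyNoetherian W] {j : Z ⟶ W} [IsOpenImmersion j] {w : W ⟶ Y} [IsProper w]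
    {π : Z ⟶ X} [UniversallyClosed π] (hcomp : j ≫ w = π ≫ f) (H : DvrExtAt f y) :
    ∃ U : Y.Opens, y ∈ U ∧ ∀ V : Y.Opens, V ≤ U → UniversallyClosed ((π ≫ f) ∣_ V) := by
  let B : Set W := closure (Set.range j) ∩ (Set.range j)ᶜ
  have hB : IsClosed (w '' B) :=
    w.isClosedMap _ (isClosed_closure.inter j.isOpenEmbedding.isOpen_range.isClosed_compl)
  refine ⟨⟨(w '' B)ᶜ, hB.isOpen_compl⟩, ?_, fun V hV => ?_⟩
  · rintro ⟨b, ⟨hb, hb'⟩, hby⟩
    exact hb' (mem_range_of_dvrExtAt hcomp H hb hby)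
  rw [← hcomp, morphismRestrict_comp]
  haveI : IsProper (w ∣_ V) := IsZariskiLocalAtTarget.restrict ‹_› _
  haveI : IsClosedImmersion (j ∣_ (w ⁻¹ᵁ V)) := by
    refine IsClosedImmersion.of_isPreimmersion _ ?_
    have hr : Set.range (j ∣_ (w ⁻¹ᵁ V)) = (w ⁻¹ᵁ V).ι ⁻¹' closure (Set.range j) := by
      ext v
      constructor
      · rintro ⟨z, rfl⟩
        rw [Set.mem_preimage, ← Scheme.Hom.comp_apply, morphismRestrict_ι, Scheme.Hom.comp_apply]
        exact subset_closure ⟨_, rfl⟩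
      · intro hv
        obtain ⟨z, hz⟩ : (w ⁻¹ᵁ V).ι v ∈ Set.range j := by
          by_contra hn
          exact hV v.2 ⟨_, ⟨hv, hn⟩, rfl⟩
        have hzV : z ∈ j ⁻¹ᵁ (w ⁻¹ᵁ V) := by
          show j z ∈ w ⁻¹ᵁ V
          rw [hz]; exact v.2
        exact ⟨⟨z, hzV⟩, Subtype.ext ((morphismRestrict_base_coe _ _ _).trans hz)⟩
    rw [hr]
    exact isClosed_closure.preimage (Scheme.Hom.continuous _)
  infer_instance

/-- Over an affine noetherian base: properness near a point from the criterion. -/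
theorem exists_isProper_restrict_affine {A : Type u} [CommRing A] [IsNoetherianRing A] {X : Scheme.{u}}
    (f : X ⟶ Spec (CommRingCat.of A)) [IsSeparated f] [LocallyOfFiniteType f] [QuasiCompact f]
    (y : Spec (CommRingCat.of A)) (H : DvrExtAt f y) :
    ∃ U : (Spec (CommRingCat.of A)).Opens, y ∈ U ∧ IsProper (f ∣_ U) := by
  classical
  haveI : CompactSpace X := QuasiCompact.compactSpace_of_compactSpace f
  obtain ⟨ι, _, Z, P, π, p, q, hπ, hq, hp, hcomp, hcov⟩ := HTopCov.exists_chowLite f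
  have piece : ∀ k, ∃ U : (Spec (CommRingCat.of A)).Opens, y ∈ U ∧ ∀ V, V ≤ U → UniversallyClosed ((π k ≫ f) ∣_ V) := by
    intro k
    haveI := hπ k; haveI := hq k; haveI := hp k
    haveI : LocallyOfFiniteType (p k ≫ q k) := by rw [hcomp]; infer_instance
    haveI : LocallyOfFiniteType (p k) := locallyOfFiniteType_of_comp (p k) (q k)
    haveI : IsSeparated (p k ≫ q k) := by rw [hcomp]; infer_instance
    haveI : IsSeparated (p k) := IsSeparated.of_comp (p k) (q k)
    haveI : QuasiCompact (p k ≫ q k) := by rw [hcomp]; infer_instance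
    haveI : QuasiCompact (p k) := QuasiCompact.of_comp (p k) (q k)
    haveI : IsLocallyNoetherian (P k) := LocallyOfFiniteType.isLocallyNoetherian (q k)
    haveI : CompactSpace (P k) := QuasiCompact.compactSpace_of_compactSpace (q k)
    haveI : QuasiSeparatedSpace (P k) := inferInstance
    haveI : LocallyOfFinitePresentation (p k) := inferInstance
    haveI : LocallyQuasiFinite (p k) := LocallyQuasiFinite.of_injective (p k).injective
    obtain ⟨T, j, ν, hj, -, hν, -, hjν⟩ := S1477.result (p k)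
    haveI := hj; haveI := hν
    haveI : IsLocallyNoetherian T := LocallyOfFiniteType.isLocallyNoetherian ν
    exact exists_nhd_piece (j := j) (w := ν ≫ q k) (π := π k) (by rw [reassoc_of% hjν, hcomp]) H
  choose U hyU hU using piece
  haveI := Fintype.ofFinite ι
  let U₀ : (Spec (CommRingCat.of A)).Opens := ⟨⋂ k, (U k : Set (Spec (CommRingCat.of A))), isOpen_iInter_of_finite fun k => (U k).isOpen⟩
  refine ⟨U₀, Set.mem_iInter.2 hyU, ?_⟩
  haveI : IsSeparated (f ∣_ U₀) := IsZariskiLocalAtTarget.restrict ‹_› _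
  haveI : LocallyOfFiniteType (f ∣_ U₀) := IsZariskiLocalAtTarget.restrict ‹_› _
  haveI : UniversallyClosed (f ∣_ U₀) := by
    refine Proj16.universallyClosed_of_finite_cover (f ∣_ U₀) (fun k => π k ∣_ (f ⁻¹ᵁ U₀)) (fun k => ?_) fun x => ?_
    · rw [← morphismRestrict_comp]
      exact hU k U₀ fun v hv => Set.mem_iInter.1 hv k
    · obtain ⟨k, z, hz⟩ := hcov x.1
      exact ⟨k, ⟨z, by show π k z ∈ f ⁻¹ᵁ U₀; rw [hz]; exact x.2⟩, Subtype.ext ((morphismRestrict_base_coe _ _ _).trans hz)⟩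
  exact {}

/-- Properness near a point from the criterion. -/
theorem exists_isProper_restrict {X Y : Scheme.{u}} [IsLocallyNoetherian Y] (f : X ⟶ Y) [IsSeparated f]
    [LocallyOfFiniteType f] [QuasiCompact f] (y : Y) (H : DvrExtAt f y) :
    ∃ U : Y.Opens, y ∈ U ∧ IsProper (f ∣_ U) := by
  obtain ⟨V, hV, hyV, -⟩ := exists_isAffineOpen_mem_and_subset (show y ∈ (⊤ : Y.Opens) from trivial)
  haveI : IsNoetherianRing Γ(Y, V) := IsLocallyNoetherian.component_noetherian ⟨V, hV⟩
  let e := hV.isoSpec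
  let f' : (f ⁻¹ᵁ V : Scheme.{u}) ⟶ Spec Γ(Y, V) := f ∣_ V ≫ e.hom
  haveI : IsSeparated (f ∣_ V) := IsZariskiLocalAtTarget.restrict ‹_› _
  haveI : LocallyOfFiniteType (f ∣_ V) := IsZariskiLocalAtTarget.restrict ‹_› _
  haveI : QuasiCompact (f ∣_ V) := IsZariskiLocalAtTarget.restrict ‹_› _
  let y' : Spec Γ(Y, V) := e.hom ⟨y, hyV⟩
  have H' : DvrExtAt f' y' := by
    intro A _ _ _ g hg σ hσ
    obtain ⟨s, hs, hsσ⟩ := H A (g ≫ e.inv ≫ V.ι) (by
        rw [Scheme.Hom.comp_apply, hg, ← Scheme.Hom.comp_apply, e.hom_inv_id_assoc]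
        rfl) (σ ≫ (f ⁻¹ᵁ V).ι) (by
        rw [Category.assoc, ← morphismRestrict_ι]
        calc σ ≫ f ∣_ V ≫ V.ι = (σ ≫ f') ≫ e.inv ≫ V.ι := by simp [f']
          _ = _ := by rw [hσ, Category.assoc])
    have hr : Set.range s ⊆ Set.range (f ⁻¹ᵁ V).ι := by
      rw [Scheme.Opens.range_ι]
      rintro _ ⟨t, rfl⟩
      show f (s t) ∈ V
      rw [← Scheme.Hom.comp_apply, hs]
      exact ((g ≫ e.inv) t).2
    refine ⟨IsOpenImmersion.lift (f ⁻¹ᵁ V).ι s hr, ?_, ?_⟩
    · rw [← cancel_mono (e.inv ≫ V.ι)]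
      simp only [f', Category.assoc, Iso.hom_inv_id_assoc, morphismRestrict_ι, IsOpenImmersion.lift_fac_assoc, hs]
    · rw [← cancel_mono (f ⁻¹ᵁ V).ι, Category.assoc, IsOpenImmersion.lift_fac, hsσ]
  obtain ⟨U', hyU', hU'⟩ := exists_isProper_restrict_affine (A := Γ(Y, V)) f' y' H'
  refine ⟨V.ι ''ᵁ (e.hom ⁻¹ᵁ U'), ⟨⟨y, hyV⟩, hyU', rfl⟩, ?_⟩
  haveI : IsProper ((f ∣_ V) ∣_ (e.hom ⁻¹ᵁ U')) := by
    rw [morphismRestrict_comp] at hU'
    exact (MorphismProperty.cancel_right_of_respectsIso @IsProper _ (e.hom ∣_ U')).1 hU'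
  exact (MorphismProperty.arrow_mk_iso_iff @IsProper (morphismRestrictRestrict f V (e.hom ⁻¹ᵁ U'))).1 inferInstance

end Groth.Agent.ProperAt5
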