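import Mathlib

/-!
# Traits centred at a point and discrete valuation rings of a subfield
-/

set_option autoImplicit false
set_option linter.style.haveILetI false
set_option backward.isDefEq.respectTransparency false
set_option backward.isDefEq.respectTransparency.types false

universe u

open CategoryTheory AlgebraicGeometry

namespace Groth.Agent.ProperAt5

variable {X : Scheme.{u}} {R : Type u} [CommRing R] [IsLocalRing R]

theorem exists_stalkHom (h : Spec (CommRingCat.of R) ⟶ X) {x : X}
    (hx : h (IsLocalRing.closedPoint R : PrimeSpectrum R) = x) :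
    ∃ φ : X.presheaf.stalk x ⟶ CommRingCat.of R, IsLocalHom φ.hom ∧ Spec.map φ ≫ X.fromSpecStalk x = h := by
  subst hx
  exact ⟨Scheme.stalkClosedPointTo h, inferInstance, Scheme.Spec_stalkClosedPointTo_fromSpecStalk h⟩

theorem spec_fromSpecStalk_closedPoint {x : X} (φ : X.presheaf.stalk x ⟶ CommRingCat.of R) [IsLocalHom φ.hom] :
    (Spec.map φ ≫ X.fromSpecStalk x) (IsLocalRing.closedPoint R : PrimeSpectrum R) = x := by
  rw [Scheme.Hom.comp_apply, show Spec.map φ (IsLocalRing.closedPoint R : PrimeSpectrum R) =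
    IsLocalRing.closedPoint (X.presheaf.stalk x) from IsLocalRing.comap_closedPoint φ.hom]
  exact Scheme.fromSpecStalk_closedPoint

/-- Morphisms from a local domain with the same centre agree if they agree on the fraction field. -/
theorem eq_of_generic {L : Type u} [CommRing L] (i : R →+* L) (hi : Function.Injective i)
    (g₁ g₂ : Spec (CommRingCat.of R) ⟶ X) {x : X} (h₁ : g₁ (IsLocalRing.closedPoint R : PrimeSpectrum R) = x)
    (h₂ : g₂ (IsLocalRing.closedPoint R : PrimeSpectrum R) = x)
    (h : Spec.map (CommRingCat.ofHom i) ≫ g₁ = Spec.map (CommRingCat.ofHom i) ≫ g₂) : g₁ = g₂ := by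
  obtain ⟨φ₁, -, hφ₁⟩ := exists_stalkHom g₁ h₁
  obtain ⟨φ₂, -, hφ₂⟩ := exists_stalkHom g₂ h₂
  rw [← hφ₁, ← hφ₂, ← Category.assoc, ← Category.assoc, ← Spec.map_comp, ← Spec.map_comp, cancel_mono] at h
  have he := Spec.map_injective h
  rw [← hφ₁, ← hφ₂, show φ₁ = φ₂ from CommRingCat.hom_ext (RingHom.ext fun r => hi (congrArg (fun φ => φ.hom r) he))]

/-- The trace of a discrete valuation ring on a subfield is a discrete valuation ring or the subfield. -/
theorem exists_trace {K L D : Type u} [Field K] [Field L] [CommRing D] [IsDomain D] [IsDiscreteValuationRing D]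
    [Algebra D L] [IsFractionRing D L] (ψ : K →+* L) :
    ∃ (A : ValuationSubring K) (e : A →+* D), (∀ a : A, algebraMap D L (e a) = ψ a) ∧ IsLocalHom e ∧
      (∀ k : K, ψ k ∈ (algebraMap D L).range → k ∈ A) ∧
      (IsDiscreteValuationRing A ∨ ∀ k : K, k ∈ A) := by
  classical
  let A : ValuationSubring K :=
    { toSubring := (algebraMap D L).range.comap ψ
      mem_or_inv_mem' := fun k => by
        rcases ValuationRing.isInteger_or_isInteger D (ψ k) with h | h
        · exact Or.inl h
        · exact Or.inr (show ψ k⁻¹ ∈ _ by rw [map_inv₀]; exact h) }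
  have hmem : ∀ a : A, ∃ d, algebraMap D L d = ψ a := fun a => a.2
  choose e he using hmem
  have hinj : Function.Injective (algebraMap D L) := IsFractionRing.injective D L
  let e' : A →+* D :=
    { toFun := e
      map_one' := hinj (by rw [he, map_one]; simp)
      map_mul' := fun a b => hinj (by simp [he])
      map_zero' := hinj (by rw [he, map_zero]; simp)
      map_add' := fun a b => hinj (by simp [he]) }
  have hdvd : ∀ a b : A, e' b ∣ e' a → b ∣ a := by
    rintro a b ⟨c, hc⟩
    by_cases hb : (b : K) = 0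
    · have : e' b = 0 := hinj (by rw [map_zero]; exact (he b).trans (by rw [hb, map_zero]))
      rw [this, zero_mul] at hc
      have ha : (a : K) = 0 := ψ.injective (by rw [map_zero, ← he a]; exact (congrArg _ hc).trans (map_zero _))
      exact ⟨0, Subtype.ext (by simp [ha])⟩
    · refine ⟨⟨(a : K) / b, ⟨c, ?_⟩⟩, Subtype.ext (by simp [mul_div_cancel₀ _ hb])⟩
      show algebraMap D L c = ψ ((a : K) / b)
      rw [map_div₀, eq_div_iff (by simpa using hb), ← he a, ← he b, ← map_mul, mul_comm]
      exact congrArg _ hc.symm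
  refine ⟨A, e', he, ⟨fun a ha => isUnit_iff_dvd_one.2 (hdvd 1 a (by rw [map_one]; exact isUnit_iff_dvd_one.1 ha))⟩,
    fun k hk => hk, ?_⟩
  by_cases hfield : ∀ k : K, k ∈ A
  · exact Or.inr hfield
  refine Or.inl ?_
  have hne : IsLocalRing.maximalIdeal A ≠ ⊥ := by
    intro h0
    push_neg at hfield
    obtain ⟨k, hk⟩ := hfield
    have hk' : k⁻¹ ∈ A := (A.mem_or_inv_mem k).resolve_left hk
    have hnu : (⟨k⁻¹, hk'⟩ : A) ∈ IsLocalRing.maximalIdeal A := by
      rw [IsLocalRing.mem_maximalIdeal]
      rintro ⟨v, hv⟩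
      apply hk
      have h1 : (v : A).1 * (↑v⁻¹ : A).1 = 1 := congrArg Subtype.val v.mul_inv
      rw [congrArg Subtype.val hv] at h1
      have h2 : k = (↑v⁻¹ : A).1 := by
        have := eq_inv_of_mul_eq_one_right h1
        simpa using this.symm
      rw [h2]
      exact (↑v⁻¹ : A).2
    rw [h0, Ideal.mem_bot] at hnu
    have hk0 : k = 0 := inv_eq_zero.1 (congrArg Subtype.val hnu)
    exact hk (hk0 ▸ A.zero_mem)
  haveI : IsPrincipalIdealRing A := ⟨fun I => by
    by_cases hI : I = ⊥
    · exact hI ▸ bot_isPrincipal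
    obtain ⟨b₀, hb₀, -⟩ := Submodule.exists_mem_ne_zero_of_ne_bot hI
    obtain ⟨b, hb, hmin⟩ := (wellFounded_lt (α := ℕ∞)).has_min
      ((fun a => IsDiscreteValuationRing.addVal D (e' a)) '' (I : Set A)) ⟨_, b₀, hb₀, rfl⟩
    obtain ⟨b, hbI, rfl⟩ := hb
    refine ⟨b, le_antisymm (fun a ha => ?_) ((Submodule.span_singleton_le_iff_mem _ _).2 hbI)⟩
    exact Ideal.mem_span_singleton.2 (hdvd a b (IsDiscreteValuationRing.addVal_le_iff_dvd.1
      (not_lt.1 (hmin _ ⟨a, ha, rfl⟩))))⟩
  exact { not_a_field' := hne }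

end Groth.Agent.ProperAt5
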