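import Groth.Agent.ProperAt5.Dvr
import Groth.Agent.DimFormula.ClosedSub
import Groth.Agent.FDescent.MaxPoint

/-!
# Properness near a point, testing only the maximal points (EGA IV 15.7.1, II 7.3.8)
-/

set_option autoImplicit false
set_option linter.style.haveILetI false
set_option backward.isDefEq.respectTransparency false
set_option backward.isDefEq.respectTransparency.types false

universe u

open CategoryTheory CategoryTheory.Limits AlgebraicGeometry TopologicalSpace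

namespace Groth.Agent.ProperAt5

/-- Rational points over discrete valuation rings centred at `y` lying over `ξ` extend. -/
def DvrExtPt {X Y : Scheme.{u}} (f : X ⟶ Y) (y : Y) (ξ : X) : Prop :=
  ∀ (A : Type u) [CommRing A] [IsDomain A] [IsDiscreteValuationRing A] (g : Spec (CommRingCat.of A) ⟶ Y),
    g (IsLocalRing.closedPoint A) = y →
    ∀ σ : Spec (CommRingCat.of (FractionRing A)) ⟶ X, (∀ t, σ t = ξ) →
      σ ≫ f = Spec.map (CommRingCat.ofHom (algebraMap A (FractionRing A))) ≫ g →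
      ∃ s : Spec (CommRingCat.of A) ⟶ X, s ≫ f = g ∧
        Spec.map (CommRingCat.ofHom (algebraMap A (FractionRing A))) ≫ s = σ

variable {X Y Z W : Scheme.{u}} {f : X ⟶ Y} {y : Y}

/-- The boundary of the closure of a point of a piece does not meet the fibre. -/
theorem mem_range_of_dvrExtPt [IsLocallyNoetherian W] {j : Z ⟶ W} [IsOpenImmersion j] {w : W ⟶ Y}
    [IsSeparated w] {π : Z ⟶ X} [UniversallyClosed π] (hcomp : j ≫ w = π ≫ f) {z : Z} (H : DvrExtPt f y (π z))
    {b : W} (hb : j z ⤳ b) (hby : w b = y) : b ∈ Set.range j := by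
  by_cases hne : b = j z
  · exact hne ▸ ⟨z, rfl⟩
  obtain ⟨A, h, hA, h1, h2⟩ := Proj16.exists_dvr_path (p := 𝟙 W) (x := j z) hb hne
  obtain ⟨e, he, he'⟩ := Proj16.exists_fractionRing_spec A
  let a := Spec.map (CommRingCat.ofHom (algebraMap A (FractionRing A)))
  have hgen : a ≫ h = e ≫ W.fromSpecResidueField (j z) := by
    show Spec.map (CommRingCat.ofHom (algebraMap A (FractionRing A))) ≫ h = _
    rw [← he', Category.assoc, h2, Category.comp_id]
  have hap : ∀ t, (a ≫ h) t = j z := fun t => by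
    rw [hgen, Scheme.Hom.comp_apply]
    erw [Scheme.fromSpecResidueField_apply]
  have hr : Set.range (a ≫ h) ⊆ Set.range j := by
    rintro _ ⟨t, rfl⟩
    exact ⟨z, (hap t).symm⟩
  let zK := IsOpenImmersion.lift j (a ≫ h) hr
  have hzK : zK ≫ j = a ≫ h := IsOpenImmersion.lift_fac _ _ _
  have hσ : ∀ t, (zK ≫ π) t = π z := fun t => by
    have h0 : zK t = z := j.isOpenEmbedding.injective (by rw [← Scheme.Hom.comp_apply, hzK, hap])
    rw [Scheme.Hom.comp_apply, h0]
  obtain ⟨s, hs, hsσ⟩ := H A (h ≫ w) (by rw [Scheme.Hom.comp_apply, h1, hby]) (zK ≫ π) hσ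
    (by rw [Category.assoc, ← hcomp, reassoc_of% hzK])
  obtain ⟨l, hl, hla⟩ := Proj16.dvrExistence_of_universallyClosed π A zK s hsσ.symm
  have heq : l ≫ j = h := Proj16.dvrUniqueness_of_isSeparated w A _ _
    (by rw [Category.assoc, hcomp, reassoc_of% hl, hs]) (by rw [← Category.assoc, hla, hzK])
  exact ⟨l (IsLocalRing.closedPoint A), by rw [← Scheme.Hom.comp_apply, heq, h1]⟩

/-- The closure of a point of a piece is universally closed near the fibre. -/
theorem exists_nhd_closure [IsLocallyNoetherian W] {j : Z ⟶ W} [IsOpenImmersion j] {w : W ⟶ Y} [IsProper w]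
    {π : Z ⟶ X} [UniversallyClosed π] (hcomp : j ≫ w = π ≫ f) (z : Z) (H : DvrExtPt f y (π z)) :
    ∃ U : Y.Opens, y ∈ U ∧ ∀ V : Y.Opens, V ≤ U → UniversallyClosed
      (((Scheme.IdealSheafData.vanishingIdeal ⟨closure {z}, isClosed_closure⟩).subschemeι ≫ π ≫ f) ∣_ V) := by
  let K : Closeds Z := ⟨closure {z}, isClosed_closure⟩
  let c := (Scheme.IdealSheafData.vanishingIdeal K).subschemeι
  have hc : Set.range c = closure {z} := DimFormula.range_vanishingIdeal K
  have hr : Set.range (c ≫ j) = closure {j z} ∩ Set.range j := by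
    ext b
    constructor
    · rintro ⟨t, rfl⟩
      refine ⟨?_, ⟨c t, rfl⟩⟩
      show j (c t) ∈ closure {j z}
      exact specializes_iff_mem_closure.1 ((specializes_iff_mem_closure.2 (hc.le ⟨t, rfl⟩)).map j.continuous)
    · rintro ⟨hb, v, rfl⟩
      obtain ⟨t, ht⟩ : v ∈ Set.range c := by
        rw [hc]
        exact specializes_iff_mem_closure.1 (j.isEmbedding.isInducing.specializes_iff.1 (specializes_iff_mem_closure.2 hb))
      exact ⟨t, by rw [Scheme.Hom.comp_apply, ht]⟩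
  let B : Set W := closure {j z} ∩ (Set.range j)ᶜ
  have hB : IsClosed (w '' B) :=
    w.isClosedMap _ (isClosed_closure.inter j.isOpenEmbedding.isOpen_range.isClosed_compl)
  refine ⟨⟨(w '' B)ᶜ, hB.isOpen_compl⟩, ?_, fun V hV => ?_⟩
  · rintro ⟨b, ⟨hb, hb'⟩, hby⟩
    exact hb' (mem_range_of_dvrExtPt hcomp H (specializes_iff_mem_closure.2 hb) hby)
  show UniversallyClosed ((c ≫ π ≫ f) ∣_ V)
  rw [← hcomp, ← Category.assoc, morphismRestrict_comp]
  haveI : IsProper (w ∣_ V) := IsZariskiLocalAtTarget.restrict ‹_› _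
  haveI : IsClosedImmersion ((c ≫ j) ∣_ (w ⁻¹ᵁ V)) := by
    refine IsClosedImmersion.of_isPreimmersion _ ?_
    have hr' : Set.range ((c ≫ j) ∣_ (w ⁻¹ᵁ V)) = (w ⁻¹ᵁ V).ι ⁻¹' closure {j z} := by
      ext v
      constructor
      · rintro ⟨t, rfl⟩
        rw [Set.mem_preimage, ← Scheme.Hom.comp_apply, morphismRestrict_ι, Scheme.Hom.comp_apply]
        exact (hr.le ⟨_, rfl⟩).1
      · intro hv
        obtain ⟨t, ht⟩ : (w ⁻¹ᵁ V).ι v ∈ Set.range (c ≫ j) := by
          rw [hr]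
          refine ⟨hv, ?_⟩
          by_contra hn
          exact hV v.2 ⟨_, ⟨hv, hn⟩, rfl⟩
        have htV : t ∈ (c ≫ j) ⁻¹ᵁ (w ⁻¹ᵁ V) := by
          show (c ≫ j) t ∈ w ⁻¹ᵁ V
          rw [ht]; exact v.2
        exact ⟨⟨t, htV⟩, Subtype.ext ((morphismRestrict_base_coe _ _ _).trans ht)⟩
    rw [hr']
    exact isClosed_closure.preimage (Scheme.Hom.continuous _)
  infer_instance

/-- Over an affine noetherian base. -/
theorem exists_isProper_restrict_gen_affine {A : Type u} [CommRing A] [IsNoetherianRing A] {X : Scheme.{u}}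
    (f : X ⟶ Spec (CommRingCat.of A)) [IsSeparated f] [LocallyOfFiniteType f] [QuasiCompact f]
    (y : Spec (CommRingCat.of A)) (H : ∀ ξ : X, (∀ z, z ⤳ ξ → z = ξ) → DvrExtPt f y ξ) :
    ∃ U : (Spec (CommRingCat.of A)).Opens, y ∈ U ∧ IsProper (f ∣_ U) := by
  classical
  haveI : CompactSpace X := QuasiCompact.compactSpace_of_compactSpace f
  haveI : IsLocallyNoetherian X := LocallyOfFiniteType.isLocallyNoetherian f
  haveI : AlgebraicGeometry.IsNoetherian X := {}
  haveI : Finite (irreducibleComponents X) :=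
    (NoetherianSpace.finite_irreducibleComponents (α := X)).to_subtype
  obtain ⟨ι, _, Z, P, π, p, q, hπ, hq, hp, hcomp, hcov⟩ := HTopCov.exists_chowLite f
  have piece : ∀ C : irreducibleComponents X, ∃ (U : (Spec (CommRingCat.of A)).Opens) (K : Scheme.{u}) (κ : K ⟶ X),
      y ∈ U ∧ (C.1 : Set X) ⊆ Set.range κ ∧ ∀ V, V ≤ U → UniversallyClosed ((κ ≫ f) ∣_ V) := by
    intro C
    obtain ⟨ξ, hξC, hξm⟩ := FDescent.exists_maximal_of_mem_irreducibleComponents C.2
    obtain ⟨k, z, rfl⟩ := hcov ξ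
    haveI := hπ k; haveI := hq k; haveI := hp k
    haveI : LocallyOfFiniteType (p k ≫ q k) := by rw [hcomp]; infer_instance
    haveI : LocallyOfFiniteType (p k) := locallyOfFiniteType_of_comp (p k) (q k)
    haveI : IsSeparated (p k ≫ q k) := by rw [hcomp]; infer_instance
    haveI : IsSeparated (p k) := IsSeparated.of_comp (p k) (q k)
    haveI : QuasiCompact (p k ≫ q k) := by rw [hcomp]; infer_instance
    haveI : QuasiCompact (p k) := QuasiCompact.of_comp (p k) (q k)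
    haveI : IsLocallyNoetherian (P k) := LocallyOfFiniteType.isLocallyNoetherian (q k)
    haveI : CompactSpace (P k) := QuasiCompact.compactSpace_of_compactSpace (q k)
    haveI : QuasiSeparatedSpace (P k) := inferInstance
    haveI : LocallyOfFinitePresentation (p k) := inferInstance
    haveI : LocallyQuasiFinite (p k) := LocallyQuasiFinite.of_injective (p k).injective
    obtain ⟨T, j, ν, hj, -, hν, -, hjν⟩ := S1477.result (p k)
    haveI := hj; haveI := hν
    haveI : IsLocallyNoetherian T := LocallyOfFiniteType.isLocallyNoetherian ν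
    obtain ⟨U, hyU, hU⟩ := exists_nhd_closure (j := j) (w := ν ≫ q k) (π := π k)
      (by rw [reassoc_of% hjν, hcomp]) z (H _ hξm)
    let K : Closeds (Z k) := ⟨closure {z}, isClosed_closure⟩
    let c := (Scheme.IdealSheafData.vanishingIdeal K).subschemeι
    refine ⟨U, _, c ≫ π k, hyU, ?_, fun V hV => by rw [Category.assoc]; exact hU V hV⟩
    rw [Scheme.Hom.comp_base, TopCat.coe_comp, Set.range_comp, DimFormula.range_vanishingIdeal K, hξC]
    exact ((π k).isClosedMap _ isClosed_closure).closure_subset_iff.2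
      (Set.singleton_subset_iff.2 ⟨z, subset_closure rfl, rfl⟩)
  choose U K κ hyU hκ hU using piece
  let U₀ : (Spec (CommRingCat.of A)).Opens := ⟨⋂ C, (U C : Set (Spec (CommRingCat.of A))), isOpen_iInter_of_finite fun C => (U C).isOpen⟩
  refine ⟨U₀, Set.mem_iInter.2 hyU, ?_⟩
  haveI : IsSeparated (f ∣_ U₀) := IsZariskiLocalAtTarget.restrict ‹_› _
  haveI : LocallyOfFiniteType (f ∣_ U₀) := IsZariskiLocalAtTarget.restrict ‹_› _
  haveI : UniversallyClosed (f ∣_ U₀) := by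
    refine Proj16.universallyClosed_of_finite_cover (f ∣_ U₀) (fun C => κ C ∣_ (f ⁻¹ᵁ U₀)) (fun C => ?_) fun x => ?_
    · rw [← morphismRestrict_comp]
      exact hU C U₀ fun v hv => Set.mem_iInter.1 hv C
    · obtain ⟨z, hz⟩ := hκ ⟨_, irreducibleComponent_mem_irreducibleComponents x.1⟩ mem_irreducibleComponent
      exact ⟨⟨_, irreducibleComponent_mem_irreducibleComponents x.1⟩,
        ⟨z, by show κ _ z ∈ f ⁻¹ᵁ U₀; rw [hz]; exact x.2⟩, Subtype.ext ((morphismRestrict_base_coe _ _ _).trans hz)⟩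
  exact {}

/-- Properness near a point from the criterion at the maximal points. -/
theorem exists_isProper_restrict_gen {X Y : Scheme.{u}} [IsLocallyNoetherian Y] (f : X ⟶ Y) [IsSeparated f]
    [LocallyOfFiniteType f] [QuasiCompact f] (y : Y) (H : ∀ ξ : X, (∀ z, z ⤳ ξ → z = ξ) → DvrExtPt f y ξ) :
    ∃ U : Y.Opens, y ∈ U ∧ IsProper (f ∣_ U) := by
  obtain ⟨V, hV, hyV, -⟩ := exists_isAffineOpen_mem_and_subset (show y ∈ (⊤ : Y.Opens) from trivial)
  haveI : IsNoetherianRing Γ(Y, V) := IsLocallyNoetherian.component_noetherian ⟨V, hV⟩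
  let e := hV.isoSpec
  let f' : (f ⁻¹ᵁ V : Scheme.{u}) ⟶ Spec Γ(Y, V) := f ∣_ V ≫ e.hom
  haveI : IsSeparated (f ∣_ V) := IsZariskiLocalAtTarget.restrict ‹_› _
  haveI : LocallyOfFiniteType (f ∣_ V) := IsZariskiLocalAtTarget.restrict ‹_› _
  haveI : QuasiCompact (f ∣_ V) := IsZariskiLocalAtTarget.restrict ‹_› _
  let y' : Spec Γ(Y, V) := e.hom ⟨y, hyV⟩
  have H' : ∀ ξ : (f ⁻¹ᵁ V : Scheme.{u}), (∀ z, z ⤳ ξ → z = ξ) → DvrExtPt f' y' ξ := by
    intro ξ hξ A _ _ _ g hg σ hσpt hσ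
    have hξm : ∀ z, z ⤳ (f ⁻¹ᵁ V).ι ξ → z = (f ⁻¹ᵁ V).ι ξ := fun z hz => by
      obtain ⟨z', rfl⟩ : z ∈ Set.range (f ⁻¹ᵁ V).ι :=
        hz.mem_open (f ⁻¹ᵁ V).ι.isOpenEmbedding.isOpen_range ⟨ξ, rfl⟩
      rw [hξ z' ((f ⁻¹ᵁ V).ι.isEmbedding.isInducing.specializes_iff.1 hz)]
    obtain ⟨s, hs, hsσ⟩ := H _ hξm A (g ≫ e.inv ≫ V.ι) (by
        rw [Scheme.Hom.comp_apply, hg, ← Scheme.Hom.comp_apply, e.hom_inv_id_assoc]
        rfl) (σ ≫ (f ⁻¹ᵁ V).ι) (fun t => by rw [Scheme.Hom.comp_apply, hσpt]) (by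
        rw [Category.assoc, ← morphismRestrict_ι]
        calc σ ≫ f ∣_ V ≫ V.ι = (σ ≫ f') ≫ e.inv ≫ V.ι := by simp [f']
          _ = _ := by rw [hσ, Category.assoc])
    have hr : Set.range s ⊆ Set.range (f ⁻¹ᵁ V).ι := by
      rw [Scheme.Opens.range_ι]
      rintro _ ⟨t, rfl⟩
      show f (s t) ∈ V
      rw [← Scheme.Hom.comp_apply, hs]
      exact ((g ≫ e.inv) t).2
    refine ⟨IsOpenImmersion.lift (f ⁻¹ᵁ V).ι s hr, ?_, ?_⟩
    · rw [← cancel_mono (e.inv ≫ V.ι)]
      simp only [f', Category.assoc, Iso.hom_inv_id_assoc, morphismRestrict_ι, IsOpenImmersion.lift_fac_assoc, hs]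
    · rw [← cancel_mono (f ⁻¹ᵁ V).ι, Category.assoc, IsOpenImmersion.lift_fac, hsσ]
  obtain ⟨U', hyU', hU'⟩ := exists_isProper_restrict_gen_affine (A := Γ(Y, V)) f' y' H'
  refine ⟨V.ι ''ᵁ (e.hom ⁻¹ᵁ U'), ⟨⟨y, hyV⟩, hyU', rfl⟩, ?_⟩
  haveI : IsProper ((f ∣_ V) ∣_ (e.hom ⁻¹ᵁ U')) := by
    rw [morphismRestrict_comp] at hU'
    exact (MorphismProperty.cancel_right_of_respectsIso @IsProper _ (e.hom ∣_ U')).1 hU'
  exact (MorphismProperty.arrow_mk_iso_iff @IsProper (morphismRestrictRestrict f V (e.hom ⁻¹ᵁ U'))).1 inferInstance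

end Groth.Agent.ProperAt5
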