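import Groth.Agent.ProperAt5.Subset
import Groth.Agent.H23.RedSub

/-!
# A subset proper over the base near a point
-/

set_option autoImplicit false
set_option linter.style.haveILetI false
set_option backward.isDefEq.respectTransparency false
set_option backward.isDefEq.respectTransparency.types false

universe u

open CategoryTheory CategoryTheory.Limits AlgebraicGeometry TopologicalSpace

namespace Groth.Agent.ProperAt5

/-- `Z` is the image of a scheme proper over an open neighbourhood of `y`. -/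
def ProperNear {X Y : Scheme.{u}} (f : X ⟶ Y) (Z : Set X) (y : Y) : Prop :=
  ∃ (U : Y.Opens) (P : Scheme.{u}) (n : P ⟶ X) (n' : P ⟶ U),
    y ∈ U ∧ IsProper n' ∧ n' ≫ U.ι = n ≫ f ∧ Set.range n = Z ∩ f ⁻¹' U

variable {X Y : Scheme.{u}} (f : X ⟶ Y) (Z : Set X) (y : Y)

theorem properNear_of_reduced (U : Y.Opens) (hy : y ∈ U) (C : Closeds (f ⁻¹ᵁ U).toScheme)
    (hC : (C : Set (f ⁻¹ᵁ U).toScheme) = (f ⁻¹ᵁ U).ι ⁻¹' Z)
    (h : IsProper ((Scheme.IdealSheafData.vanishingIdeal C).subschemeι ≫ f ∣_ U)) : ProperNear f Z y := by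
  refine ⟨U, _, (Scheme.IdealSheafData.vanishingIdeal C).subschemeι ≫ (f ⁻¹ᵁ U).ι, _, hy, h, ?_, ?_⟩
  · rw [Category.assoc, morphismRestrict_ι, Category.assoc]
  · rw [Scheme.Hom.comp_base, TopCat.coe_comp, Set.range_comp, DimFormula.range_vanishingIdeal C, hC,
      Set.image_preimage_eq_inter_range, Scheme.Opens.range_ι]
    rfl

theorem exists_reduced_of_properNear [IsSeparated f] [LocallyOfFiniteType f] (h : ProperNear f Z y) :
    ∃ U : Y.Opens, y ∈ U ∧ ∃ hC : IsClosed ((f ⁻¹ᵁ U).ι.base ⁻¹' Z),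
      IsProper ((Scheme.IdealSheafData.vanishingIdeal
        (⟨(f ⁻¹ᵁ U).ι.base ⁻¹' Z, hC⟩ : TopologicalSpace.Closeds ↥(f ⁻¹ᵁ U))).subschemeι ≫ (f ∣_ U)) := by
  obtain ⟨U, P, n, n', hy, hn', hnn, hr⟩ := h
  haveI := hn'
  haveI : IsSeparated (f ∣_ U) := IsZariskiLocalAtTarget.restrict ‹_› _
  haveI : LocallyOfFiniteType (f ∣_ U) := IsZariskiLocalAtTarget.restrict ‹_› _
  have hr' : Set.range n ⊆ Set.range (f ⁻¹ᵁ U).ι := by
    rw [Scheme.Opens.range_ι, hr]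
    exact Set.inter_subset_right
  let m := IsOpenImmersion.lift (f ⁻¹ᵁ U).ι n hr'
  have hm : m ≫ f ∣_ U = n' := by
    rw [← cancel_mono U.ι, Category.assoc, morphismRestrict_ι, IsOpenImmersion.lift_fac_assoc, hnn]
  haveI : IsProper (m ≫ f ∣_ U) := hm.symm ▸ hn'
  haveI : IsProper m := IsProper.of_comp m (f ∣_ U)
  have hrm : Set.range m = (f ⁻¹ᵁ U).ι.base ⁻¹' Z := by
    ext v
    constructor
    · rintro ⟨t, rfl⟩
      show (f ⁻¹ᵁ U).ι (m t) ∈ Z
      rw [← Scheme.Hom.comp_apply, IsOpenImmersion.lift_fac]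
      exact (hr.le ⟨t, rfl⟩).1
    · intro hv
      obtain ⟨t, ht⟩ : (f ⁻¹ᵁ U).ι v ∈ Set.range n := hr.ge ⟨hv, v.2⟩
      refine ⟨t, (f ⁻¹ᵁ U).ι.isOpenEmbedding.injective ?_⟩
      rw [← Scheme.Hom.comp_apply, IsOpenImmersion.lift_fac]
      exact ht
  have hC : IsClosed ((f ⁻¹ᵁ U).ι.base ⁻¹' Z) := hrm ▸ m.isClosedMap.isClosed_range
  refine ⟨U, hy, hC, ?_⟩
  let C : Closeds (f ⁻¹ᵁ U).toScheme := ⟨(f ⁻¹ᵁ U).ι.base ⁻¹' Z, hC⟩
  let cU := (Scheme.IdealSheafData.vanishingIdeal C).subschemeι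
  let red := (Scheme.IdealSheafData.vanishingIdeal (⊤ : Closeds P)).subschemeι
  obtain ⟨l, hl⟩ := exists_factor_closed (red ≫ m) C (by
    rintro _ ⟨t, rfl⟩
    exact hrm.le ⟨red t, rfl⟩)
  haveI : Surjective l := ⟨fun w => by
    obtain ⟨t, ht⟩ : cU w ∈ Set.range m := hrm.ge ((DimFormula.range_vanishingIdeal C).le ⟨w, rfl⟩)
    obtain ⟨t', rfl⟩ : t ∈ Set.range red := by rw [DimFormula.range_vanishingIdeal]; trivial
    refine ⟨t', cU.isEmbedding.injective ?_⟩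
    rw [← Scheme.Hom.comp_apply, hl]
    exact ht⟩
  show IsProper (cU ≫ f ∣_ U)
  haveI : UniversallyClosed (l ≫ cU ≫ f ∣_ U) := by
    rw [reassoc_of% hl, hm]
    infer_instance
  haveI : UniversallyClosed (cU ≫ f ∣_ U) := UniversallyClosed.of_comp_surjective l (cU ≫ f ∣_ U)
  exact {}

theorem properNear_comap {X' Y' : Scheme.{u}} {f' : X' ⟶ Y'} {q : X' ⟶ X} {π : Y' ⟶ Y}
    (sq : IsPullback q f' f π) (y' : Y') (h : ProperNear f Z (π y')) : ProperNear f' (q ⁻¹' Z) y' := by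
  obtain ⟨U, P, n, n', hy, hn', hnn, hr⟩ := h
  let P' := pullback n q
  have big : IsPullback (pullback.fst n q) (pullback.snd n q ≫ f') (n ≫ f) π :=
    (IsPullback.of_hasPullback n q).paste_vert sq
  have hsub : Set.range (pullback.snd n q ≫ f') ⊆ Set.range (π ⁻¹ᵁ U).ι := by
    rw [Scheme.Opens.range_ι]
    rintro _ ⟨t, rfl⟩
    show π ((pullback.snd n q ≫ f') t) ∈ U
    rw [← Scheme.Hom.comp_apply, ← big.w, ← hnn, Scheme.Hom.comp_apply, Scheme.Hom.comp_apply]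
    exact (n' (pullback.fst n q t)).2
  let n'' := IsOpenImmersion.lift (π ⁻¹ᵁ U).ι (pullback.snd n q ≫ f') hsub
  have hn'' : n'' ≫ (π ⁻¹ᵁ U).ι = pullback.snd n q ≫ f' := IsOpenImmersion.lift_fac _ _ _
  have sq' : IsPullback (pullback.fst n q) n'' n' (π ∣_ U) := by
    refine IsPullback.of_bot ?_ ?_ (isPullback_morphismRestrict π U)
    · rw [hn'', hnn]; exact big
    · rw [← cancel_mono U.ι, Category.assoc, Category.assoc, morphismRestrict_ι, hnn, reassoc_of% hn'', big.w,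
        Category.assoc]
  refine ⟨π ⁻¹ᵁ U, P', pullback.snd n q, n'', hy, MorphismProperty.of_isPullback sq' hn', hn'', ?_⟩
  rw [Scheme.Pullback.range_snd, hr]
  ext x
  simp only [Set.mem_preimage, Set.mem_inter_iff]
  refine and_congr_right fun _ => ?_
  show f (q x) ∈ U ↔ π (f' x) ∈ U
  rw [← Scheme.Hom.comp_apply, sq.w, Scheme.Hom.comp_apply]

theorem properNear_of_open (V : Y.Opens) (v : V.toScheme) (hv : V.ι v = y)
    (h : ProperNear (f ∣_ V) ((f ⁻¹ᵁ V).ι ⁻¹' Z) v) : ProperNear f Z y := by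
  obtain ⟨U, P, n, n', hy, hn', hnn, hr⟩ := h
  refine ⟨V.ι ''ᵁ U, P, n ≫ (f ⁻¹ᵁ V).ι, n' ≫ (V.ι.isoImage U).hom, ⟨v, hy, hv⟩,
    (MorphismProperty.cancel_right_of_respectsIso @IsProper _ _).2 hn', ?_, ?_⟩
  · rw [Category.assoc, Scheme.Hom.isoImage_hom_ι, reassoc_of% hnn, morphismRestrict_ι, Category.assoc]
  · rw [Scheme.Hom.comp_base, TopCat.coe_comp, Set.range_comp, hr]
    ext x
    constructor
    · rintro ⟨w, ⟨hw, hwU⟩, rfl⟩
      exact ⟨hw, (f ∣_ V) w, hwU, morphismRestrict_base_coe f V w⟩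
    · rintro ⟨hx, w, hwU, hwx⟩
      have hxV : x ∈ f ⁻¹ᵁ V := by
        show f x ∈ V
        rw [← hwx]; exact w.2
      refine ⟨⟨x, hxV⟩, ⟨hx, ?_⟩, rfl⟩
      show (f ∣_ V) ⟨x, hxV⟩ ∈ U
      rwa [show (f ∣_ V) ⟨x, hxV⟩ = w from V.ι.isOpenEmbedding.injective ((morphismRestrict_base_coe f V _).trans hwx.symm)]

end Groth.Agent.ProperAt5
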