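import Groth.Agent.ProperAt5.KeyDvr
import Groth.Agent.ProperAt5.Subset
import Groth.Agent.Proj16.DVRCrit

/-!
# Sections through a piece of a scheme over a discrete valuation ring (EGA IV 15.7.8)
-/

set_option autoImplicit false
set_option linter.style.haveILetI false
set_option backward.isDefEq.respectTransparency false
set_option backward.isDefEq.respectTransparency.types false

universe u

open CategoryTheory CategoryTheory.Limits AlgebraicGeometry TopologicalSpace

namespace Groth.Agent.ProperAt5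

/-- Geometric preconnectedness of a piece of a fibre, after a base change. -/
theorem preconnected_base_change {X Y X' T : Scheme.{u}} {p : X' ⟶ X} {q : X' ⟶ T} {f : X ⟶ Y} {h : T ⟶ Y}
    (sq : IsPullback p q f h) (Z : Set X) (t : T)
    (H : ∀ (K : Type u) [Field K] [Algebra (Y.residueField (h t)) K],
      _root_.IsPreconnected ((pullback.fst (f.fiberToSpecResidueField (h t))
        (Spec.map (CommRingCat.ofHom (algebraMap (Y.residueField (h t)) K))) ≫ f.fiberι (h t)) ⁻¹' Z)) :
    _root_.IsPreconnected (q ⁻¹' {t} ∩ p ⁻¹' Z) := by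
  obtain ⟨e, he, hef⟩ := ConsPropLib.exists_fibre_pullback sq t
  letI : Algebra (Y.residueField (h t)) (T.residueField t) := (h.residueFieldMap t).hom.toAlgebra
  let θ := he.isoPullback
  have hθ : θ.hom ≫ pullback.fst _ _ = e := he.isoPullback_hom_fst
  have h0 := (H (T.residueField t)).image (θ.inv ≫ q.fiberι t) (Scheme.Hom.continuous _).continuousOn
  refine Eq.mp (congrArg _root_.IsPreconnected ?_) h0
  have hp : ∀ v, (pullback.fst (f.fiberToSpecResidueField (h t)) (Spec.map (h.residueFieldMap t)) ≫ f.fiberι (h t)) v =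
      p (q.fiberι t (θ.inv v)) := fun v => by
    rw [← Scheme.Hom.comp_apply, ← Scheme.Hom.comp_apply]
    congr 2
    rw [← hef, ← hθ]
    simp
  ext x
  constructor
  · rintro ⟨v, hv, rfl⟩
    refine ⟨(q.range_fiberι t).le ⟨θ.inv v, rfl⟩, ?_⟩
    show p ((θ.inv ≫ q.fiberι t) v) ∈ Z
    rw [Scheme.Hom.comp_apply, ← hp]
    exact hv
  · rintro ⟨hx, hxZ⟩
    obtain ⟨w, rfl⟩ : x ∈ Set.range (q.fiberι t) := by rw [q.range_fiberι]; exact hx
    have hw : θ.inv (θ.hom w) = w := by
      rw [← Scheme.Hom.comp_apply, Iso.hom_inv_id]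
      rfl
    exact ⟨θ.hom w, show _ ∈ Z from (hp _).trans (by rw [hw]) ▸ hxZ, by rw [Scheme.Hom.comp_apply, hw]⟩

variable {A : Type u} [CommRing A] [IsDomain A] [IsDiscreteValuationRing A]

/-- A rational point of a preconnected piece of the generic fibre, which meets an open with proper
closed fibre, extends to a section with values in that open. -/
theorem exists_section_of_piece {X : Scheme.{u}} (f : X ⟶ Spec (CommRingCat.of A)) [IsSeparated f]
    [LocallyOfFiniteType f] [QuasiCompact f] (W : X.Opens) [QuasiCompact W.ι]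
    (hp : IsProper ((W.ι ≫ f).fiberToSpecResidueField (IsLocalRing.closedPoint A : PrimeSpectrum A)))
    (G : Set X) (hG : ∀ x ∈ G, f x = gen A)
    (hconn : ∀ (T : Scheme.{u}) (π : T ⟶ Spec (CommRingCat.of A)) (b : T), π b = gen A →
      _root_.IsPreconnected ((pullback.snd f π) ⁻¹' {b} ∩ (pullback.fst f π) ⁻¹' G))
    (hmeet : ∃ z ∈ G, ∃ z₀ ∈ W, z ⤳ z₀ ∧ f z₀ = IsLocalRing.closedPoint A)
    (σ : Spec (CommRingCat.of (FractionRing A)) ⟶ X) {x : X} (hσx : ∀ t, σ t = x) (hx : x ∈ G)
    (hσ : σ ≫ f = Spec.map (CommRingCat.ofHom (algebraMap A (FractionRing A)))) :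
    ∃ s : Spec (CommRingCat.of A) ⟶ X, s ≫ f = 𝟙 _ ∧
      Spec.map (CommRingCat.ofHom (algebraMap A (FractionRing A))) ≫ s = σ ∧
      s (IsLocalRing.closedPoint A : PrimeSpectrum A) ∈ W := by
  obtain ⟨_, hB, hinj⟩ := HTopAwn.isDVR_completion (V := A)
  let B := AdicCompletion (IsLocalRing.maximalIdeal A) A
  haveI := hB
  haveI : HenselianLocalRing B := BrnchLib.henselianLocalRing_completion A
  haveI : IsNoetherianRing B := inferInstance
  let π : Spec (CommRingCat.of B) ⟶ Spec (CommRingCat.of A) := Spec.map (CommRingCat.ofHom (algebraMap A B))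
  haveI : Flat π := HasRingHomProperty.Spec_iff.2 (RingHom.flat_algebraMap_iff.2 inferInstance)
  have hloc : IsLocalHom (algebraMap A B) := by
    refine ((IsLocalRing.local_hom_TFAE (algebraMap A B)).out 2 0).1 ?_
    rw [AdicCompletion.maximalIdeal_eq_map]
  have hcl : π (IsLocalRing.closedPoint B) = (IsLocalRing.closedPoint A : PrimeSpectrum A) :=
    IsLocalRing.comap_closedPoint (algebraMap A B)
  have hgen : π (gen B) = gen A := PrimeSpectrum.ext ((RingHom.injective_iff_ker_eq_bot (algebraMap A B)).1 hinj)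
  haveI : Surjective π := ⟨fun t => by
    by_cases ht : t = IsLocalRing.closedPoint A
    · exact ⟨IsLocalRing.closedPoint B, ht ▸ hcl⟩
    · exact ⟨gen B, (eq_gen_of_ne t ht) ▸ hgen⟩⟩
  let g := pullback.snd f π
  let p := pullback.fst f π
  have sq : IsPullback p g f π := IsPullback.of_hasPullback f π
  haveI : IsSeparated g := MorphismProperty.pullback_snd (P := @IsSeparated) _ _ inferInstance
  haveI : LocallyOfFiniteType g := MorphismProperty.pullback_snd (P := @LocallyOfFiniteType) _ _ inferInstance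
  haveI : QuasiCompact g := MorphismProperty.pullback_snd (P := @QuasiCompact) _ _ inferInstance
  haveI : Flat p := MorphismProperty.pullback_fst (P := @Flat) _ _ inferInstance
  have sqW : IsPullback (p ∣_ W) ((p ⁻¹ᵁ W).ι ≫ g) (W.ι ≫ f) π := (isPullback_morphismRestrict p W).paste_vert sq
  haveI : QuasiCompact (p ⁻¹ᵁ W).ι := MorphismProperty.of_isPullback (isPullback_morphismRestrict p W) inferInstance
  have hpB : IsProper (((p ⁻¹ᵁ W).ι ≫ g).fiberToSpecResidueField (IsLocalRing.closedPoint B : PrimeSpectrum B)) := by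
    obtain ⟨e, he, -⟩ := ConsPropLib.exists_fibre_pullback sqW
      ((IsLocalRing.closedPoint B : PrimeSpectrum B) : ↥(Spec (CommRingCat.of B)))
    have hp' : IsProper ((W.ι ≫ f).fiberToSpecResidueField (π (IsLocalRing.closedPoint B))) := hcl.symm ▸ hp
    exact MorphismProperty.of_isPullback he hp'
  obtain ⟨C, hCc, hCp, hCs, -⟩ := exists_clopen_proper ((p ⁻¹ᵁ W).ι ≫ g) hpB
  let o := C.ι ≫ (p ⁻¹ᵁ W).ι
  haveI : IsProper (o ≫ g) := by
    show IsProper ((C.ι ≫ (p ⁻¹ᵁ W).ι) ≫ g)
    rw [Category.assoc]; exact hCp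
  haveI : IsProper o := IsProper.of_comp o g
  have hoC : IsClopen (Set.range o) := ⟨o.isClosedMap.isClosed_range, o.isOpenEmbedding.isOpen_range⟩
  have hoW : ∀ v ∈ Set.range o, p v ∈ W := by
    rintro _ ⟨c, rfl⟩
    exact ((C.ι c : (p ⁻¹ᵁ W : Scheme.{u}))).2
  have hpre : _root_.IsPreconnected (g ⁻¹' {gen B} ∩ p ⁻¹' G) := hconn _ π _ hgen
  have hmem : ∀ v, p v ∈ G → v ∈ g ⁻¹' {gen B} ∩ p ⁻¹' G := fun v hv => ⟨eq_gen_of_ne _ fun h => by
    have h1 : f (p v) = π (g v) := by rw [← Scheme.Hom.comp_apply, sq.w, Scheme.Hom.comp_apply]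
    rw [h, hcl, hG _ hv] at h1
    exact gen_ne_closedPoint h1, hv⟩
  have hsub : g ⁻¹' {gen B} ∩ p ⁻¹' G ⊆ Set.range o := by
    obtain ⟨z, hzG, z₀, hz₀W, hzz, hz₀⟩ := hmeet
    obtain ⟨v₀, hv₀p, hv₀g⟩ := Scheme.Pullback.exists_preimage_pullback (f := f) (g := π) z₀
      (IsLocalRing.closedPoint B) (hz₀.trans hcl.symm)
    obtain ⟨v, hv, hvz⟩ := (Flat.generalizingMap p) (show z ⤳ p v₀ from hv₀p ▸ hzz)
    let v₀' : (p ⁻¹ᵁ W : Scheme.{u}) := ⟨v₀, show p v₀ ∈ W by rw [hv₀p]; exact hz₀W⟩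
    have hv₀' : v₀ ∈ Set.range o := ⟨⟨v₀', hCs v₀' hv₀g⟩, rfl⟩
    exact hpre.subset_isClopen hoC ⟨v, hmem v (by rw [hvz]; exact hzG), hv.mem_open hoC.2 hv₀'⟩
  let K : Closeds X := ⟨closure {x}, isClosed_closure⟩
  let c := (Scheme.IdealSheafData.vanishingIdeal K).subschemeι
  have hc : Set.range c = closure {x} := DimFormula.range_vanishingIdeal K
  let q := pullback.snd c p
  have hr : Set.range q ⊆ Set.range o := by
    rintro _ ⟨w, rfl⟩
    have hw : x ⤳ p (q w) := by
      rw [← Scheme.Hom.comp_apply, ← pullback.condition, Scheme.Hom.comp_apply]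
      exact specializes_iff_mem_closure.2 (hc.le ⟨_, rfl⟩)
    obtain ⟨v, hv, hvx⟩ := (Flat.generalizingMap p) hw
    exact hv.mem_closed hoC.1 (hsub (hmem v (by rw [hvx]; exact hx)))
  let l := IsOpenImmersion.lift o q hr
  have hl : l ≫ o = q := IsOpenImmersion.lift_fac _ _ _
  haveI : IsClosedImmersion q := MorphismProperty.pullback_snd (P := @IsClosedImmersion) _ _ inferInstance
  haveI : IsClosedImmersion (l ≫ o) := hl.symm ▸ inferInstance
  haveI : IsClosedImmersion l := IsClosedImmersion.of_comp l o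
  haveI : IsProper (q ≫ g) := by
    rw [← hl, Category.assoc]
    infer_instance
  haveI := EtFound.fpqc_isProper.{u}
  haveI : IsProper (c ≫ f) := MorphismProperty.of_isPullback_of_descendsAlong
    (Q := (@Surjective ⊓ @Flat ⊓ @QuasiCompact : MorphismProperty Scheme.{u}))
    ((IsPullback.of_hasPullback c p).paste_vert sq).flip ⟨⟨inferInstance, inferInstance⟩, inferInstance⟩
    (show IsProper (q ≫ g) from inferInstance)
  obtain ⟨σ', hσ'⟩ := exists_factor_closed σ K (by
    rintro _ ⟨t, rfl⟩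
    rw [hσx t]
    exact subset_closure rfl)
  obtain ⟨s, hs, hsσ⟩ := Proj16.dvrExistence_of_universallyClosed (c ≫ f) A σ' (𝟙 _)
    (by rw [Category.comp_id, reassoc_of% hσ', hσ])
  refine ⟨s ≫ c, by rw [Category.assoc, hs], by rw [← Category.assoc, hsσ, hσ'], ?_⟩
  let k := (s ≫ c) (IsLocalRing.closedPoint A : PrimeSpectrum A)
  have hk : f k = π (IsLocalRing.closedPoint B) := by
    show f ((s ≫ c) (IsLocalRing.closedPoint A : PrimeSpectrum A)) = _
    rw [hcl, ← Scheme.Hom.comp_apply, Category.assoc, hs]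
    rfl
  obtain ⟨v, hvp, -⟩ := Scheme.Pullback.exists_preimage_pullback (f := f) (g := π) k _ hk
  obtain ⟨w, hw⟩ : v ∈ Set.range q := by
    show v ∈ Set.range (pullback.snd c p)
    rw [Scheme.Pullback.range_snd, Set.mem_preimage, hvp]
    exact ⟨_, rfl⟩
  show k ∈ W
  rw [← hvp]
  exact hoW v (hr ⟨w, hw⟩)

end Groth.Agent.ProperAt5
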