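import Groth.Agent.S4977
import Groth.Agent.ProperAt5.Near
import Groth.Agent.GeomComp5.SectionCons
import Groth.Agent.S1324
import Groth.Agent.LimSm.Model
import Groth.Agent.MorLib.DescendSep
import Groth.Agent.S9218

/-!
# Properness of the components of a section (EGA IV 15.7.11)
-/

set_option autoImplicit false
set_option linter.style.haveILetI false
set_option backward.isDefEq.respectTransparency false
set_option backward.isDefEq.respectTransparency.types false

universe u

open CategoryTheory CategoryTheory.Limits AlgebraicGeometry TopologicalSpace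
open Groth.Agent.MorLib Groth.Agent.ConsPropLib

namespace Groth.Agent.ProperAt5

variable {X Y : Scheme.{u}} (f : X ⟶ Y) (e : Y ⟶ X) (he : e ≫ f = 𝟙 Y)

include he

theorem apply_sect (y : Y) : f (e y) = y := by
  rw [← Scheme.Hom.comp_apply, he]
  rfl

theorem sectionComponents_inter_fibre (y : Y) :
    MoreMor.sectionComponents f e ∩ f ⁻¹' {y} = connectedComponentIn (f ⁻¹' {y}) (e y) := by
  ext x
  constructor
  · rintro ⟨hx, hxy⟩
    have hxy' : f x = y := hxy
    rw [← hxy']
    exact hx
  · intro hx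
    have hxy : f x = y := connectedComponentIn_subset (f ⁻¹' {y}) (e y) hx
    refine ⟨?_, hxy⟩
    show x ∈ connectedComponentIn (f ⁻¹' {f x}) (e (f x))
    rw [hxy]
    exact hx

theorem preimage_fiberι_eq (y : Y) :
    (f.fiberι y) ⁻¹' MoreMor.sectionComponents f e = (f.fiberι y) ⁻¹' connectedComponentIn (f ⁻¹' {y}) (e y) := by
  rw [← sectionComponents_inter_fibre f e he y]
  exact Set.ext fun w => ⟨fun h => ⟨h, (f.range_fiberι y).le ⟨w, rfl⟩⟩, fun h => h.1⟩

theorem isClopen_preimage_fiberι [LocallyOfFiniteType f] [QuasiCompact f] (y : Y) :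
    IsClopen ((f.fiberι y) ⁻¹' MoreMor.sectionComponents f e) := by
  haveI : LocallyOfFiniteType (f.fiberToSpecResidueField y) :=
    MorphismProperty.pullback_snd (P := @LocallyOfFiniteType) _ _ inferInstance
  haveI : IsLocallyNoetherian (f.fiber y) := LocallyOfFiniteType.isLocallyNoetherian (f.fiberToSpecResidueField y)
  haveI : AlgebraicGeometry.IsNoetherian (f.fiber y) := {}
  haveI : LocallyConnectedSpace ↥(f.fiber y) := H23.LocNoethTop.locallyConnectedSpace
    fun z => ⟨Set.univ, Filter.univ_mem, inferInstance⟩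
  obtain ⟨w₀, hw₀⟩ : e y ∈ Set.range (f.fiberι y) := by
    rw [f.range_fiberι]; exact apply_sect f e he y
  rw [preimage_fiberι_eq f e he, ← hw₀, SecComp5.connectedComponentIn_fiberι,
    (f.fiberι y).isEmbedding.injective.preimage_image]
  exact isClopen_connectedComponent

theorem preconnected_bc (y : Y) (K : Type u) [Field K] [Algebra (Y.residueField y) K] :
    _root_.IsPreconnected ((pullback.fst (f.fiberToSpecResidueField y)
      (Spec.map (CommRingCat.ofHom (algebraMap (Y.residueField y) K))) ≫ f.fiberι y) ⁻¹'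
        MoreMor.sectionComponents f e) := by
  let a := Spec.map (CommRingCat.ofHom (algebraMap (Y.residueField y) K))
  let h : Spec (CommRingCat.of K) ⟶ Y := a ≫ Y.fromSpecResidueField y
  let XK := pullback (f.fiberToSpecResidueField y) a
  let fK : XK ⟶ Spec (CommRingCat.of K) := pullback.snd _ a
  have sq : IsPullback (pullback.fst (f.fiberToSpecResidueField y) a ≫ f.fiberι y) fK f h :=
    (IsPullback.of_hasPullback _ a).paste_horiz (IsPullback.of_hasPullback f _)
  let s' : Spec (CommRingCat.of K) ⟶ XK := sq.lift (h ≫ e) (𝟙 _) (by rw [Category.assoc, he, Category.comp_id, Category.id_comp])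
  have hs' : s' ≫ fK = 𝟙 _ := sq.lift_snd _ _ _
  rw [← S1324.result f e he fK _ h sq s' hs' (sq.lift_fst _ _ _)]
  let pt : Spec (CommRingCat.of K) := (IsLocalRing.closedPoint K : PrimeSpectrum K)
  have hsc : MoreMor.sectionComponents fK s' = connectedComponent (s' pt) := by
    ext x
    show x ∈ connectedComponentIn (fK ⁻¹' {fK x}) (s' (fK x)) ↔ _
    rw [show (fK ⁻¹' {fK x} : Set XK) = Set.univ from Set.eq_univ_of_forall fun v => Subsingleton.elim (α := PrimeSpectrum K) _ _,
      connectedComponentIn_univ, show fK x = pt from Subsingleton.elim (α := PrimeSpectrum K) _ _]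
  rw [hsc]
  exact isPreconnected_connectedComponent

/-- The noetherian case. -/
theorem properNear_noeth [IsLocallyNoetherian Y] [IsSeparated f] [LocallyOfFiniteType f] [QuasiCompact f] (y : Y)
    (hop : IsOpen ((f.fiberι y) ⁻¹' MoreMor.sectionComponents f e))
    (hprop : IsProper (Scheme.Opens.ι (⟨(f.fiberι y) ⁻¹' MoreMor.sectionComponents f e, hop⟩ : (f.fiber y).Opens) ≫
      f.fiberToSpecResidueField y)) :
    ProperNear f (MoreMor.sectionComponents f e) y := by
  haveI : IsLocallyNoetherian X := LocallyOfFiniteType.isLocallyNoetherian f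
  haveI : LocallyOfFinitePresentation f := inferInstance
  have hmem : ∀ y', e y' ∈ MoreMor.sectionComponents f e := fun y' => SecComp5.section_mem f e he y'
  obtain ⟨U, hy, hC, hU⟩ := S4977.result y f (MoreMor.sectionComponents f e)
    (GeomComp5.isLocallyConstructible_sectionComponents f e he)
    (fun y' _ => ⟨⟨e y', hmem y', apply_sect f e he y', sectionComponents_inter_fibre f e he y'⟩,
      fun K fK aK => @preconnected_bc _ _ f e he y' K fK aK⟩) hop hprop
    (fun Y' h E _ ⟨W, hW, hWE⟩ => by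
      let s' : Y' ⟶ pullback f h := pullback.lift (h ≫ e) (𝟙 _) (by rw [Category.assoc, he, Category.comp_id, Category.id_comp])
      refine ⟨s' ⁻¹' W, hW.preimage s'.continuous, ?_⟩
      have hp : ∀ v, pullback.fst f h (s' v) = e (h v) := fun v => by
        rw [← Scheme.Hom.comp_apply, pullback.lift_fst, Scheme.Hom.comp_apply]
      have hq : ∀ v, pullback.snd f h (s' v) = v := fun v => by
        rw [← Scheme.Hom.comp_apply, pullback.lift_snd]
        rfl
      ext v
      constructor
      · rintro ⟨hv, -⟩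
        have h1 := (hWE.le ⟨hv, show pullback.fst f h (s' v) ∈ _ by rw [hp]; exact hmem _⟩).1
        rw [Set.mem_preimage, hq] at h1
        exact h1
      · intro hv
        exact ⟨(hWE.ge ⟨show pullback.snd f h (s' v) ∈ E by rw [hq]; exact hv,
          show pullback.fst f h (s' v) ∈ _ by rw [hp]; exact hmem _⟩).1, ⟨e (h v), hmem _, apply_sect f e he _⟩⟩)
  exact properNear_of_reduced f _ y U hy _ rfl hU

omit he in
/-- A separated model over a noetherian base carrying a section. -/
theorem exists_sep_model_section (A : Type u) [CommRing A] {X : Scheme.{u}} (f : X ⟶ Spec (CommRingCat.of A))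
    [IsSeparated f] [LocallyOfFinitePresentation f] [QuasiCompact f] [QuasiSeparated f]
    (s : Spec (CommRingCat.of A) ⟶ X) (hs : s ≫ f = 𝟙 _) :
    ∃ (S₁ X₁ : Scheme.{u}) (f₁ : X₁ ⟶ S₁) (s₁ : S₁ ⟶ X₁) (π : Spec (CommRingCat.of A) ⟶ S₁) (q : X ⟶ X₁),
      AlgebraicGeometry.IsNoetherian S₁ ∧ IsSeparated f₁ ∧ LocallyOfFinitePresentation f₁ ∧ QuasiCompact f₁ ∧
        s₁ ≫ f₁ = 𝟙 _ ∧ IsPullback q f f₁ π ∧ s ≫ q = π ≫ s₁ := by
  let D := NoethApprox.diagram (CommRingCat.of A)
  let c : Cone D := NoethApprox.cone (CommRingCat.of A)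
  have hc : IsLimit c := NoethApprox.isLimit (CommRingCat.of A)
  haveI : ∀ {i j} (f : i ⟶ j), IsAffineHom (D.map f) := fun f => NoethApprox.isAffineHom_map _ f
  haveI : ∀ (i j) (f : i ⟶ j), IsAffineHom (D.map f) := fun _ _ f => NoethApprox.isAffineHom_map _ f
  haveI : ∀ i, IsAffine (D.obj i) := fun i => NoethApprox.isAffine_obj _ i
  let fc : X ⟶ c.pt := f
  haveI : LocallyOfFinitePresentation fc := ‹LocallyOfFinitePresentation f›
  haveI : QuasiCompact fc := ‹QuasiCompact f›
  haveI : QuasiSeparated fc := ‹QuasiSeparated f›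
  obtain ⟨m, X₀, f₀, g₀, hm⟩ := hasModel hc fc
  haveI := hm.qc
  haveI := hm.qs
  haveI := hm.lfp
  obtain ⟨a, φa, ha⟩ := Desc.descend D c hc m (P := @IsSeparated) (Q := (⊤ : MorphismProperty Scheme.{u}))
    Desc.core_isSeparated f₀ trivial (Desc.of_two @IsSeparated hm.sq (IsPullback.of_hasPullback _ _) ‹IsSeparated f›)
  have hM := hm.pushed φa
  haveI := hM.lfp
  haveI := hM.qc
  haveI := hM.qs
  let fa := pullback.snd f₀ (D.map φa)
  haveI := hM.compactSpace
  haveI := hM.quasiSeparatedSpace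
  haveI : CompactSpace (D.obj a) := inferInstance
  haveI : QuasiSeparatedSpace (D.obj a) := inferInstance
  obtain ⟨j, φ, fj, sX, sY, hfj, hA1, hA2, hB1, hB2, hcomm⟩ :=
    Groth.Agent.S9218.result D c hc a (𝟙 (D.obj a)) fa (c.π.app a) (𝟙 c.pt)
      IsPullback.of_id_snd (hm.push φa) fc hM.sq s hs
  let p := pullback.snd (𝟙 (D.obj a)) (D.map φ)
  haveI : IsIso p := inferInstance
  let f₁ := pullback.snd fa (D.map φ)
  have hsY : sY = hM.push φ := pullback.hom_ext (hB1.trans (hM.push_fst φ).symm) (hB2.trans (hM.push_snd φ).symm)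
  refine ⟨D.obj j, pullback fa (D.map φ), f₁, inv p ≫ fj, c.π.app j, sY, NoethApprox.isNoetherian_obj _ j,
    MorphismProperty.pullback_snd (P := @IsSeparated) _ _ ha, (hM.pushed φ).lfp, (hM.pushed φ).qc,
    ?_, ?_, ?_⟩
  · rw [Category.assoc, hfj, IsIso.inv_hom_id]
  · rw [hsY]
    exact (hM.pushed φ).sq
  · rw [← hcomm, ← Category.assoc]
    congr 1
    rw [← cancel_mono p, Category.assoc, IsIso.inv_hom_id, Category.comp_id, hA2]
    exact Category.id_comp _

omit he in
/-- The fibre piece and its properness along a cartesian square. -/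
theorem isProper_piece_iff {X' Y' : Scheme.{u}} {q : X' ⟶ X} {f' : X' ⟶ Y'} {π : Y' ⟶ Y} (sq : IsPullback q f' f π)
    (Z : Set X) (y' : Y') (O : (f.fiber (π y')).Opens) (hO : (O : Set (f.fiber (π y'))) = (f.fiberι (π y')) ⁻¹' Z)
    (O' : (f'.fiber y').Opens) (hO' : (O' : Set (f'.fiber y')) = (f'.fiberι y') ⁻¹' (q ⁻¹' Z)) :
    IsProper (O.ι ≫ f.fiberToSpecResidueField (π y')) ↔ IsProper (O'.ι ≫ f'.fiberToSpecResidueField y') := by
  obtain ⟨ε, hε, hεf⟩ := ConsPropLib.exists_fibre_pullback sq y'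
  obtain rfl : O' = ε ⁻¹ᵁ O := TopologicalSpace.Opens.ext (by
    rw [hO']
    show _ = ε ⁻¹' (O : Set (f.fiber (π y')))
    rw [hO]
    ext w
    show q (f'.fiberι y' w) ∈ Z ↔ f.fiberι (π y') (ε w) ∈ Z
    rw [← Scheme.Hom.comp_apply ε, hεf, Scheme.Hom.comp_apply])
  have sq' := (isPullback_morphismRestrict ε O).paste_vert hε
  refine ⟨fun h => MorphismProperty.of_isPullback sq' h, fun h => ?_⟩
  haveI := EtFound.fpqc_isProper.{u}
  haveI : Flat (Spec.map (π.residueFieldMap y')) := by
    refine HasRingHomProperty.Spec_iff.2 ?_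
    letI := (π.residueFieldMap y').hom.toAlgebra
    exact RingHom.flat_algebraMap_iff.2 (inferInstanceAs (Module.Flat (Y.residueField (π y')) (Y'.residueField y')))
  haveI : Surjective (Spec.map (π.residueFieldMap y')) :=
    ⟨fun t => ⟨(IsLocalRing.closedPoint (Y'.residueField y') : PrimeSpectrum _), Subsingleton.elim (α := PrimeSpectrum _) _ _⟩⟩
  exact MorphismProperty.of_isPullback_of_descendsAlong
    (Q := (@Surjective ⊓ @Flat ⊓ @QuasiCompact : MorphismProperty Scheme.{u}))
    sq'.flip ⟨⟨inferInstance, inferInstance⟩, inferInstance⟩ h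

/-- The general case. -/
theorem properNear_sectionComponents [IsSeparated f] [LocallyOfFinitePresentation f] [QuasiCompact f]
    [QuasiSeparated f] (y : Y) (hop : IsOpen ((f.fiberι y) ⁻¹' MoreMor.sectionComponents f e))
    (hprop : IsProper (Scheme.Opens.ι (⟨(f.fiberι y) ⁻¹' MoreMor.sectionComponents f e, hop⟩ : (f.fiber y).Opens) ≫
      f.fiberToSpecResidueField y)) :
    ProperNear f (MoreMor.sectionComponents f e) y := by
  obtain ⟨V, hV, hyV, -⟩ := exists_isAffineOpen_mem_and_subset (show y ∈ (⊤ : Y.Opens) from trivial)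
  let A := Γ(Y, V)
  let j : Spec A ⟶ Y := hV.fromSpec
  let XA := pullback f j
  let fA : XA ⟶ Spec A := pullback.snd f j
  let qA : XA ⟶ X := pullback.fst f j
  have sqA : IsPullback qA fA f j := IsPullback.of_hasPullback f j
  haveI : IsSeparated fA := MorphismProperty.pullback_snd (P := @IsSeparated) _ _ inferInstance
  haveI : LocallyOfFinitePresentation fA := MorphismProperty.pullback_snd (P := @LocallyOfFinitePresentation) _ _ inferInstance
  haveI : QuasiCompact fA := MorphismProperty.pullback_snd (P := @QuasiCompact) _ _ inferInstance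
  haveI : QuasiSeparated fA := MorphismProperty.pullback_snd (P := @QuasiSeparated) _ _ inferInstance
  let eA : Spec A ⟶ XA := pullback.lift (j ≫ e) (𝟙 _) (by rw [Category.assoc, he, Category.comp_id, Category.id_comp])
  have heA : eA ≫ fA = 𝟙 _ := pullback.lift_snd _ _ _
  have hscA : MoreMor.sectionComponents fA eA = qA ⁻¹' MoreMor.sectionComponents f e :=
    S1324.result f e he fA qA j sqA eA heA (pullback.lift_fst _ _ _)
  obtain ⟨v, hv⟩ : y ∈ Set.range j := by rw [hV.range_fromSpec]; exact hyV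
  subst hv
  -- properness in the fibre over the affine chart
  have hopA := (isClopen_preimage_fiberι fA eA heA v).isOpen
  have hpropA := (isProper_piece_iff f sqA (MoreMor.sectionComponents f e) v ⟨_, hop⟩ rfl
    ⟨_, hopA⟩ (by rw [← hscA]; rfl)).1 hprop
  -- the noetherian model
  obtain ⟨S₁, X₁, f₁, s₁, π, q, hS₁, hsep₁, hlfp₁, hqc₁, hs₁, sq₁, hsq⟩ :=
    exists_sep_model_section A fA eA heA
  haveI := hS₁; haveI := hsep₁; haveI := hlfp₁; haveI := hqc₁
  have hsc₁ : MoreMor.sectionComponents fA eA = q ⁻¹' MoreMor.sectionComponents f₁ s₁ :=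
    S1324.result f₁ s₁ hs₁ fA q π sq₁ eA heA hsq
  have hop₁ := (isClopen_preimage_fiberι f₁ s₁ hs₁ (π v)).isOpen
  have hprop₁ := (isProper_piece_iff f₁ sq₁ (MoreMor.sectionComponents f₁ s₁) v ⟨_, hop₁⟩ rfl
    ⟨_, hopA⟩ (by rw [← hsc₁]; rfl)).2 hpropA
  have h₁ := properNear_comap f₁ _ sq₁ v (properNear_noeth f₁ s₁ hs₁ (π v) hop₁ hprop₁)
  rw [← hsc₁, hscA] at h₁
  -- back to the open
  have hr : Set.range j = (V : Set Y) := hV.range_fromSpec
  obtain ⟨U, P, n, n', hy, hn', hnn, hrn⟩ := h₁
  refine ⟨j ''ᵁ U, P, n ≫ qA, n' ≫ (j.isoImage U).hom, ⟨v, hy, rfl⟩,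
    (MorphismProperty.cancel_right_of_respectsIso @IsProper _ _).2 hn', ?_, ?_⟩
  · rw [Category.assoc, Scheme.Hom.isoImage_hom_ι, reassoc_of% hnn, Category.assoc, sqA.w]
  · rw [Scheme.Hom.comp_base, TopCat.coe_comp, Set.range_comp, hrn]
    ext x
    constructor
    · rintro ⟨w, ⟨hw, hwU⟩, rfl⟩
      refine ⟨hw, fA w, hwU, ?_⟩
      show j (fA w) = f (qA w)
      rw [← Scheme.Hom.comp_apply, ← Scheme.Hom.comp_apply, sqA.w]
    · rintro ⟨hx, w, hwU, hwx⟩
      obtain ⟨z, hz1, hz2⟩ := Scheme.Pullback.exists_preimage_pullback (f := f) (g := j) x w hwx.symm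
      refine ⟨z, ⟨show qA z ∈ _ from hz1.symm ▸ hx, ?_⟩, hz1⟩
      show fA z ∈ U
      rw [show fA z = w from hz2]
      exact hwU

end Groth.Agent.ProperAt5
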